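import Cfsg.Agent.Lib.Helper24.CharInt

set_option autoImplicit false

namespace Cfsg.Agent.Lib.Helper25
namespace CommCount

open Cfsg Cfsg.Agent.Lib.Helper2 Cfsg.Agent.Lib.Helper6 Cfsg.Agent.Lib.Helper24
open scoped ComplexConjugate

attribute [local instance] irrFintype

variable {G : Type*} [Group G] [Fintype G]

open scoped Classical in
/-- the number of ways of writing `z` as a commutator. -/
noncomputable def commCount (z : G) : ℂ := ∑ x : G, ∑ y : G, if x * y * x⁻¹ * y⁻¹ = z then 1 else 0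

theorem isClassFunction_commCount : IsClassFunction G (commCount (G := G)) := by
  classical
  intro g h
  simp only [commCount]
  refine Fintype.sum_equiv (MulAut.conj h⁻¹).toEquiv _ _ fun x => ?_
  refine Fintype.sum_equiv (MulAut.conj h⁻¹).toEquiv _ _ fun y => ?_
  apply if_congr _ rfl rfl
  simp only [MulEquiv.toEquiv_eq_coe, MulEquiv.coe_toEquiv, MulAut.conj_apply, inv_inv]
  constructor
  · intro e
    have : h⁻¹ * x * h * (h⁻¹ * y * h) * (h⁻¹ * x * h)⁻¹ * (h⁻¹ * y * h)⁻¹
        = h⁻¹ * (x * y * x⁻¹ * y⁻¹) * h := by group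
    rw [this, e]; group
  · intro e
    rw [← e]; group

theorem sum_commCount_mul (θ : G → ℂ) :
    ∑ z, commCount z * θ z = ∑ x : G, ∑ y : G, θ (x * y * x⁻¹ * y⁻¹) := by
  classical
  simp only [commCount, Finset.sum_mul]
  rw [Finset.sum_comm]
  refine Finset.sum_congr rfl fun x _ => ?_
  rw [Finset.sum_comm]
  refine Finset.sum_congr rfl fun y _ => ?_
  simp [ite_mul]

theorem sum_sum_char {χ : G → ℂ} (hχ : IsIrrCharacter G χ) :
    ∑ x : G, ∑ y : G, χ (x * y * x⁻¹ * y⁻¹) = (Nat.card G : ℂ) ^ 2 / χ 1 := by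
  rw [Finset.sum_comm]
  have h1 : ∀ y : G, ∑ x : G, χ (x * y * x⁻¹ * y⁻¹) = (Nat.card G : ℂ) / χ 1 * (χ y * conj (χ y)) := by
    intro y
    rw [schur_average hχ y y⁻¹, IsCharacter.apply_inv (IsIrrCharacter.isCharacter hχ)]
    ring
  simp only [h1]
  rw [← Finset.mul_sum, sum_mul_conj_self hχ]
  ring

theorem om_commCount {χ : G → ℂ} (hχ : IsIrrCharacter G χ) :
    om χ commCount = (Nat.card G : ℂ) ^ 2 / (χ 1) ^ 2 := by
  rw [om, sum_commCount_mul, sum_sum_char hχ]
  have := irr_one_ne_zero hχ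
  field_simp

theorem commCount_eq_coef :
    commCount (G := G) = coef (fun χ : IrrCharacter G => (Nat.card G : ℂ) ^ 2 / ((χ : G → ℂ) 1) ^ 2) := by
  rw [eq_coef_om isClassFunction_commCount]
  congr 1
  ext χ
  exact om_commCount χ.2

theorem commCount_eq_card (z : G) :
    commCount z = (Nat.card {xy : G × G // xy.1 * xy.2 * xy.1⁻¹ * xy.2⁻¹ = z} : ℂ) := by
  classical
  rw [commCount, ← Finset.sum_product' (f := fun x y => if x * y * x⁻¹ * y⁻¹ = z then (1 : ℂ) else 0)]
  rw [Finset.sum_boole, Nat.card_eq_fintype_card, Fintype.card_subtype]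
  rfl

theorem conj_one {χ : G → ℂ} (hχ : IsCharacter G χ) : conj (χ 1) = χ 1 := by
  have := IsCharacter.apply_inv hχ 1
  rw [inv_one] at this
  exact this.symm

theorem commCount_apply (z : G) :
    commCount z = (Nat.card G : ℂ) * ∑ χ : IrrCharacter G, (χ : G → ℂ) z / (χ : G → ℂ) 1 := by
  have h1 : conj (commCount z) = commCount z := by
    rw [commCount_eq_card]; simp
  rw [← h1, commCount_eq_coef, coef_apply, map_mul, map_sum, map_inv₀, Complex.conj_natCast]
  have h0 : (Nat.card G : ℂ) ≠ 0 := by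
    exact_mod_cast (Nat.card_pos (α := G)).ne'
  rw [Finset.mul_sum, Finset.mul_sum]
  refine Finset.sum_congr rfl fun χ _ => ?_
  have h2 := irr_one_ne_zero χ.2
  simp only [map_mul, map_div₀, map_pow, Complex.conj_natCast, conj_one (IsIrrCharacter.isCharacter χ.2), Complex.conj_conj]
  field_simp

/-- the number of ways of writing `g` as a product of two commutators (up to a positive factor). -/
theorem conv_commCount_apply (g : G) :
    conv commCount commCount g
      = (Nat.card G : ℂ) ^ 3 * ∑ χ : IrrCharacter G, conj ((χ : G → ℂ) g) / ((χ : G → ℂ) 1) ^ 3 := by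
  rw [commCount_eq_coef, ← coef_mul, coef_apply]
  have h0 : (Nat.card G : ℂ) ≠ 0 := by
    exact_mod_cast (Nat.card_pos (α := G)).ne'
  rw [Finset.mul_sum, Finset.mul_sum]
  refine Finset.sum_congr rfl fun χ _ => ?_
  have h2 := irr_one_ne_zero χ.2
  simp only [Pi.mul_apply]
  field_simp

end CommCount
end Cfsg.Agent.Lib.Helper25
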