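import Cfsg.Agent.Lib.Helper24.CharInt
import Cfsg.Agent.Lib.Helper25.CommCount
import Cfsg.Prelude.Def_Transfer

set_option autoImplicit false
open Cfsg

namespace Cfsg.Agent.Lib.Helper25
namespace Gagola

open Cfsg.Agent.Lib.Helper2 Cfsg.Agent.Lib.Helper6 Cfsg.Agent.Lib.Helper24
open scoped ComplexConjugate

attribute [local instance] irrFintype

/-- a normal subgroup whose non-identity elements are all conjugate in the group is elementary abelian. -/
theorem elementaryAbelian_of_conj {G : Type*} [Group G] [Finite G] {N : Subgroup G} (hN : N.Normal) (hN1 : N ≠ ⊥)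
    (hconj : ∀ x ∈ N, ∀ y ∈ N, x ≠ 1 → y ≠ 1 → ∃ g : G, g * x * g⁻¹ = y) :
    ∃ p : ℕ, p.Prime ∧ IsElementaryAbelian p N := by
  haveI : Nontrivial N := (Subgroup.nontrivial_iff_ne_bot N).mpr hN1
  have hcard : Nat.card N ≠ 1 := by
    intro h
    exact hN1 ((Subgroup.card_eq_one).mp h)
  obtain ⟨p, hp, hpd⟩ := Nat.exists_prime_and_dvd hcard
  haveI : Fact p.Prime := ⟨hp⟩
  obtain ⟨z, hz⟩ := exists_prime_orderOf_dvd_card' (G := ↥N) p hpd
  have hz1 : (z : G) ≠ 1 := by
    intro h
    have : z = 1 := Subtype.ext h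
    rw [this, orderOf_one] at hz
    exact hp.one_lt.ne hz
  have hzp : (z : G) ^ p = 1 := by
    have := pow_orderOf_eq_one z
    rw [hz] at this
    exact congrArg Subtype.val this
  have hexp : ∀ a ∈ N, a ^ p = 1 := by
    intro a ha
    by_cases ha1 : a = 1
    · rw [ha1, one_pow]
    · obtain ⟨g, rfl⟩ := hconj z z.2 a ha hz1 ha1
      rw [conj_pow, hzp]; group
  refine ⟨p, hp, ?_, hexp⟩
  have hpg : IsPGroup p N := by
    intro a
    refine ⟨1, Subtype.ext ?_⟩
    rw [pow_one]
    exact hexp a a.2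
  obtain ⟨w, hw, hw1⟩ : ∃ w ∈ Subgroup.center N, w ≠ 1 := by
    haveI := hpg.center_nontrivial
    obtain ⟨w, hw⟩ := exists_ne (1 : Subgroup.center N)
    exact ⟨w, w.2, fun h => hw (Subtype.ext h)⟩
  have hw1' : (w : G) ≠ 1 := fun h => hw1 (Subtype.ext h)
  have hcomm : ∀ x ∈ N, ∀ y ∈ N, x * y = y * x := by
    intro x hx y hy
    by_cases hx1 : x = 1
    · rw [hx1, one_mul, mul_one]
    · obtain ⟨g, rfl⟩ := hconj w w.2 x hx hw1' hx1
      have hy' : g⁻¹ * y * g ∈ N := by
        have := hN.conj_mem y hy g⁻¹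
        rwa [inv_inv] at this
      have h1 := Subgroup.mem_center_iff.mp hw ⟨_, hy'⟩
      have h2 : g⁻¹ * y * g * (w : G) = (w : G) * (g⁻¹ * y * g) := congrArg Subtype.val h1
      calc g * (w : G) * g⁻¹ * y = g * ((w : G) * (g⁻¹ * y * g)) * g⁻¹ := by group
        _ = g * (g⁻¹ * y * g * (w : G)) * g⁻¹ := by rw [h2]
        _ = y * (g * (w : G) * g⁻¹) := by group
  exact ⟨⟨fun a b => Subtype.ext (hcomm a a.2 b b.2)⟩⟩

variable {G : Type*} [Group G] [Fintype G]

/-- `χ` is non-zero exactly at `1` and on the class of `a ≠ 1`. -/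
structure Data (χ : G → ℂ) (a : G) : Prop where
  irr : IsIrrCharacter G χ
  ne_one : a ≠ 1
  ne_zero : χ a ≠ 0
  cases : ∀ g, χ g ≠ 0 → g = 1 ∨ IsConj a g

theorem exists_data (χ : IrrCharacter G)
    (hχ : Nat.card {C : ConjClasses G // ∃ g ∈ C.carrier, (χ : G → ℂ) g ≠ 0} = 2) :
    ∃ a, Data (χ : G → ℂ) a := by
  obtain ⟨C₁, C₂, hne, huniv⟩ := Nat.card_eq_two_iff.mp hχ
  have h1 : (χ : G → ℂ) 1 ≠ 0 := irr_one_ne_zero χ.2
  let C₀ : {C : ConjClasses G // ∃ g ∈ C.carrier, (χ : G → ℂ) g ≠ 0} :=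
    ⟨ConjClasses.mk 1, 1, ConjClasses.mem_carrier_mk, h1⟩
  have hall : ∀ C : {C : ConjClasses G // ∃ g ∈ C.carrier, (χ : G → ℂ) g ≠ 0}, C = C₁ ∨ C = C₂ := by
    intro C
    have : C ∈ ({C₁, C₂} : Set _) := by rw [huniv]; trivial
    simpa using this
  obtain ⟨C, hC0, hCall⟩ : ∃ C : {C : ConjClasses G // ∃ g ∈ C.carrier, (χ : G → ℂ) g ≠ 0}, C ≠ C₀ ∧
      ∀ D, D = C₀ ∨ D = C := by
    rcases hall C₀ with h | h
    · exact ⟨C₂, by rw [h]; exact hne.symm, fun D => by rw [h]; exact hall D⟩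
    · exact ⟨C₁, by rw [h]; exact hne, fun D => by rw [h]; exact (hall D).symm⟩
  obtain ⟨⟨C, a, haC, ha0⟩, hC0, hCall⟩ := (⟨C, hC0, hCall⟩ : ∃ C, C ≠ C₀ ∧ ∀ D, D = C₀ ∨ D = C)
  have haC' : ConjClasses.mk a = C := ConjClasses.mem_carrier_iff_mk_eq.mp haC
  refine ⟨a, χ.2, ?_, ha0, ?_⟩
  · rintro rfl
    apply hC0
    apply Subtype.ext
    exact haC'.symm
  · intro g hg
    rcases hCall ⟨ConjClasses.mk g, g, ConjClasses.mem_carrier_mk, hg⟩ with h | h
    · left
      have h2 : ConjClasses.mk g = ConjClasses.mk 1 := congrArg Subtype.val h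
      have h3 : IsConj g 1 := ConjClasses.mk_eq_mk_iff_isConj.mp h2
      exact isConj_one_left.mp h3
    · right
      have h2 : ConjClasses.mk g = C := congrArg Subtype.val h
      rw [← haC'] at h2
      exact (ConjClasses.mk_eq_mk_iff_isConj.mp h2).symm

variable {χ : G → ℂ} {a : G}

theorem sum_formula (D : Data χ a) {f : G → ℂ} (hf : IsClassFunction G f) :
    ∑ g, χ g * f g = χ 1 * f 1 + (Nat.card {x : G // IsConj a x} : ℂ) * (χ a * f a) := by
  classical
  have h1 : ∀ g, χ g * f g = (if g = 1 then χ 1 * f 1 else 0) + (if IsConj a g then χ a * f a else 0) := by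
    intro g
    by_cases hg : g = 1
    · have : ¬ IsConj a g := by
        rw [hg]
        intro h
        exact D.ne_one (isConj_one_left.mp h)
      rw [if_pos hg, if_neg this, hg, add_zero]
    · rw [if_neg hg, zero_add]
      by_cases hc : IsConj a g
      · rw [if_pos hc, Helper2.IsClassFunction.eq_of_isConj (irr_isClassFunction D.irr) hc,
          Helper2.IsClassFunction.eq_of_isConj hf hc]
      · rw [if_neg hc]
        have : χ g = 0 := by
          by_contra h0
          rcases D.cases g h0 with h | h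
          · exact hg h
          · exact hc h
        rw [this, zero_mul]
  rw [Finset.sum_congr rfl (fun g _ => h1 g), Finset.sum_add_distrib, Finset.sum_ite_eq' Finset.univ (1 : G), if_pos (Finset.mem_univ _),
    ← Finset.sum_filter, Finset.sum_const, nsmul_eq_mul, Nat.card_eq_fintype_card, Fintype.card_subtype]

theorem card_class_pos (a : G) : 0 < Nat.card {x : G // IsConj a x} := by
  haveI : Nonempty {x : G // IsConj a x} := ⟨⟨a, IsConj.refl a⟩⟩
  exact Nat.card_pos

theorem ne_triv (hG : 2 < Nat.card G) (D : Data χ a) : χ ≠ fun _ => 1 := by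
  classical
  intro h
  have h1 : ∀ g : G, g = 1 ∨ IsConj a g := fun g => D.cases g (by rw [h]; exact one_ne_zero)
  have h2 : Nat.card G = 1 + Nat.card {x : G // IsConj a x} := by
    rw [Nat.card_eq_fintype_card, Nat.card_eq_fintype_card, Fintype.card_subtype, ← Finset.card_univ,
      ← Finset.card_singleton (1 : G), ← Finset.card_union_of_disjoint]
    · congr 1
      ext g
      simp only [Finset.mem_univ, Finset.mem_union, Finset.mem_singleton, Finset.mem_filter, true_and, true_iff]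
      exact h1 g
    · rw [Finset.disjoint_left]
      intro g hg hg'
      simp only [Finset.mem_singleton] at hg
      simp only [Finset.mem_filter, Finset.mem_univ, true_and] at hg'
      rw [hg] at hg'
      exact D.ne_one (isConj_one_left.mp hg')
  have h3 := card_isConj_mul_card_centralizer a
  have h4 : Nat.card {x : G // IsConj a x} ∣ 1 + Nat.card {x : G // IsConj a x} := by
    rw [← h2]; exact Dvd.intro _ h3
  have h5 : Nat.card {x : G // IsConj a x} ∣ 1 := (Nat.dvd_add_left (dvd_refl _)).mp h4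
  have h6 := Nat.dvd_one.mp h5
  omega

theorem rel_of_ne (D : Data χ a) {ψ : G → ℂ} (hψ : IsIrrCharacter G ψ) (hne : χ ≠ ψ) :
    χ 1 * conj (ψ 1) + (Nat.card {x : G // IsConj a x} : ℂ) * (χ a * conj (ψ a)) = 0 := by
  classical
  have h1 := classInner_irr D.irr hψ
  rw [if_neg hne, classInner] at h1
  have h0 : (Nat.card G : ℂ)⁻¹ ≠ 0 := inv_ne_zero (by exact_mod_cast (Nat.card_pos (α := G)).ne')
  have h2 := (mul_eq_zero.mp h1).resolve_left h0
  have hcl : IsClassFunction G (fun g => conj (ψ g)) := by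
    intro g h
    simp only
    rw [irr_isClassFunction hψ g h]
  rw [sum_formula D hcl] at h2
  exact h2

theorem rel_one (hG : 2 < Nat.card G) (D : Data χ a) :
    χ 1 + (Nat.card {x : G // IsConj a x} : ℂ) * χ a = 0 := by
  have := rel_of_ne D isIrrCharacter_one (ne_triv hG D)
  simpa using this

theorem apply_eq_of_ne (hG : 2 < Nat.card G) (D : Data χ a) {ψ : G → ℂ} (hψ : IsIrrCharacter G ψ)
    (hne : χ ≠ ψ) : ψ a = ψ 1 := by
  have h1 := rel_of_ne D hψ hne
  have h2 := rel_one hG D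
  have h3 : χ 1 * (conj (ψ 1) - conj (ψ a)) = 0 := by
    linear_combination h1 - conj (ψ a) * h2
  have h4 := (mul_eq_zero.mp h3).resolve_left (irr_one_ne_zero D.irr)
  have h5 : conj (ψ a) = conj (ψ 1) := (sub_eq_zero.mp h4).symm
  exact (starRingEnd ℂ).injective h5

theorem faithful (hG : 2 < Nat.card G) (D : Data χ a) (g : G) (hg : χ g = χ 1) : g = 1 := by
  have h1 : χ g ≠ 0 := by rw [hg]; exact irr_one_ne_zero D.irr
  rcases D.cases g h1 with h | h
  · exact h
  · exfalso
    have h2 : χ a = χ 1 := by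
      rw [Helper2.IsClassFunction.eq_of_isConj (irr_isClassFunction D.irr) h, hg]
    have h3 := rel_one hG D
    rw [h2] at h3
    have h4 : (1 + (Nat.card {x : G // IsConj a x} : ℂ)) * χ 1 = 0 := by linear_combination h3
    rcases mul_eq_zero.mp h4 with h5 | h5
    · have : ((1 + Nat.card {x : G // IsConj a x} : ℕ) : ℂ) = 0 := by push_cast; exact h5
      have h6 : 1 + Nat.card {x : G // IsConj a x} = 0 := by exact_mod_cast this
      omega
    · exact irr_one_ne_zero D.irr h5

/-- an element in the kernel of all other irreducible characters is a non-zero of `χ`. -/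
theorem ne_zero_of_forall (hG : 2 < Nat.card G) (D : Data χ a) {x : G}
    (hx : ∀ ψ : G → ℂ, IsIrrCharacter G ψ → χ ≠ ψ → ψ x = ψ 1) : χ x ≠ 0 := by
  classical
  by_cases hx1 : x = 1
  · rw [hx1]; exact irr_one_ne_zero D.irr
  intro h0
  have h1 := column_orthogonality x 1
  rw [if_neg (fun h => hx1 (isConj_one_left.mp h))] at h1
  have h2 : ∀ ψ : IrrCharacter G, 0 ≤ ((ψ : G → ℂ) x * conj ((ψ : G → ℂ) 1)).re := by
    intro ψ
    by_cases hψ : χ = ψ
    · rw [← hψ, h0, zero_mul]; simp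
    · rw [hx ψ ψ.2 hψ, Complex.mul_conj]
      simp [Complex.normSq_nonneg]
  have h3 := congrArg Complex.re h1
  rw [Complex.re_sum, Complex.zero_re] at h3
  have h4 := (Finset.sum_eq_zero_iff_of_nonneg (fun ψ _ => h2 ψ)).mp h3
    ⟨fun _ => 1, isIrrCharacter_one⟩ (Finset.mem_univ _)
  simp at h4

/-- the subgroup of non-zeros. -/
theorem exists_subgroup (hG : 2 < Nat.card G) (D : Data χ a) :
    ∃ N : Subgroup G, N.Normal ∧ ∀ g, g ∈ N ↔ χ g ≠ 0 := by
  classical
  refine ⟨⨅ ψ : {ψ : IrrCharacter G // χ ≠ ψ}, kerOf (IsIrrCharacter.isCharacter ψ.1.2), ?_, ?_⟩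
  · exact Subgroup.normal_iInf_normal fun ψ => kerOf_normal _
  · intro g
    rw [Subgroup.mem_iInf]
    constructor
    · intro h
      apply ne_zero_of_forall hG D
      intro ψ hψ hne
      exact (mem_kerOf _ g).mp (h ⟨⟨ψ, hψ⟩, hne⟩)
    · intro h ψ
      rw [mem_kerOf]
      rcases D.cases g h with h1 | h1
      · rw [h1]
      · rw [← Helper2.IsClassFunction.eq_of_isConj (irr_isClassFunction ψ.1.2) h1]
        exact apply_eq_of_ne hG D ψ.1.2 ψ.2

end Gagola
end Cfsg.Agent.Lib.Helper25
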