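import Cfsg.Agent.Lib.Helper25.Gagola
import Cfsg.Agent.Lib.Helper6.LinChar

set_option autoImplicit false
open Cfsg

namespace Cfsg.Agent.Lib.Helper25
namespace Gagola

open Cfsg.Agent.Lib.Helper2 Cfsg.Agent.Lib.Helper6 Cfsg.Agent.Lib.Helper24
open scoped ComplexConjugate

attribute [local instance] irrFintype

/-- a central element of an abelian subgroup `M` with `a ^ |H : M| ≠ 1` is detected by a linear character. -/
theorem exists_hom_ne_one {H : Type*} [Group H] [Finite H] (M : Subgroup H)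
    (hM : ∀ x ∈ M, ∀ y ∈ M, x * y = y * x) {a : H} (ha : a ∈ M) (hc : ∀ g : H, g * a = a * g)
    (hne : a ^ M.index ≠ 1) : ∃ θ : H →* ℂˣ, θ a ≠ 1 := by
  letI : CommGroup M := { (inferInstance : Group M) with mul_comm := fun x y => Subtype.ext (hM x x.2 y y.2) }
  have hne' : (⟨a, ha⟩ : M) ^ M.index ≠ 1 := fun h => hne (congrArg Subtype.val h)
  haveI : NeZero ((Monoid.exponent M : ℕ) : ℂ) := ⟨by exact_mod_cast Monoid.exponent_ne_zero_of_finite⟩
  obtain ⟨φ, hφ⟩ := CommGroup.exists_apply_ne_one_of_hasEnoughRootsOfUnity M ℂ hne'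
  refine ⟨MonoidHom.transfer φ, ?_⟩
  rw [transfer_eq_pow_of_invariant φ a (φ ⟨a, ha⟩) ?_]
  · rw [← map_pow]; exact hφ
  · intro k g h
    rw [← map_pow]
    congr 1
    apply Subtype.ext
    change g⁻¹ * a ^ k * g = a ^ k
    have h1 : Commute g (a ^ k) := Commute.pow_right (hc g) k
    rw [mul_assoc, ← h1.eq, inv_mul_cancel_left]

theorem index_dvd {H : Type*} [Group H] [Fintype H] {Φ : H → ℂ} (hΦ : IsCharacter H Φ) (M : Subgroup H)
    (hM : ∀ x ∈ M, ∀ y ∈ M, x * y = y * x) (e : ℕ) (h0 : ∀ h, h ∉ M → Φ h = 0)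
    (h1 : ∀ h ∈ M, h ≠ 1 → Φ h = -(e : ℂ)) (h2 : Φ 1 = (e : ℂ) * ((Nat.card M : ℂ) - 1))
    {a : H} (ha : a ∈ M) (hc : ∀ g : H, g * a = a * g) (hne : a ^ M.index ≠ 1) : M.index ∣ e := by
  classical
  obtain ⟨θ, hθ⟩ := exists_hom_ne_one M hM ha hc hne
  have hθc : IsIrrCharacter H (fun h => (θ h : ℂ)) := isIrrCharacter_of_hom θ
  obtain ⟨m, hm⟩ := IsCharacter.classInner_nat hΦ (IsIrrCharacter.isCharacter hθc)
  have hS : ∑ h : H, (if h ∈ M then (θ h : ℂ) else 0) = 0 := by
    have e1 : (θ a : ℂ) * ∑ h : H, (if h ∈ M then (θ h : ℂ) else 0)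
        = ∑ h : H, (if h ∈ M then (θ h : ℂ) else 0) := by
      rw [Finset.mul_sum]
      refine Fintype.sum_equiv (Equiv.mulLeft a) _ _ fun h => ?_
      change (θ a : ℂ) * (if h ∈ M then (θ h : ℂ) else 0) = if a * h ∈ M then (θ (a * h) : ℂ) else 0
      by_cases hh : h ∈ M
      · rw [if_pos hh, if_pos (M.mul_mem ha hh), map_mul, Units.val_mul]
      · rw [if_neg hh, if_neg (fun h' => hh ((Subgroup.mul_mem_cancel_left M ha).mp h')), mul_zero]
    have e2 : ((θ a : ℂ) - 1) * ∑ h : H, (if h ∈ M then (θ h : ℂ) else 0) = 0 := by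
      rw [sub_mul, e1, one_mul, sub_self]
    rcases mul_eq_zero.mp e2 with e3 | e3
    · exfalso
      apply hθ
      apply Units.ext
      rw [Units.val_one]
      exact sub_eq_zero.mp e3
    · exact e3
  have hS' : ∑ h : H, (if h ∈ M then conj (θ h : ℂ) else 0) = 0 := by
    have := congrArg conj hS
    rw [map_sum, map_zero] at this
    refine Eq.trans ?_ this
    refine Finset.sum_congr rfl fun h _ => ?_
    split_ifs <;> simp
  have hpt : ∀ h : H, Φ h * conj (θ h : ℂ) = (if h = 1 then (e : ℂ) * (Nat.card M : ℂ) else 0)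
      - (e : ℂ) * (if h ∈ M then conj (θ h : ℂ) else 0) := by
    intro h
    by_cases hh1 : h = 1
    · rw [if_pos hh1, hh1, if_pos M.one_mem, h2, map_one, Units.val_one, map_one]
      ring
    · rw [if_neg hh1]
      by_cases hh : h ∈ M
      · rw [if_pos hh, h1 h hh hh1]; ring
      · rw [if_neg hh, h0 h hh]; ring
  have hsum : ∑ h : H, Φ h * conj (θ h : ℂ) = (e : ℂ) * (Nat.card M : ℂ) := by
    rw [Finset.sum_congr rfl (fun h _ => hpt h), Finset.sum_sub_distrib, ← Finset.mul_sum, hS', mul_zero, sub_zero,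
      Finset.sum_ite_eq' Finset.univ (1 : H), if_pos (Finset.mem_univ _)]
  rw [classInner, hsum] at hm
  have hH0 : (Nat.card H : ℂ) ≠ 0 := by exact_mod_cast (Nat.card_pos (α := H)).ne'
  have hm2 : (e : ℂ) * (Nat.card M : ℂ) = (m : ℂ) * (Nat.card H : ℂ) := by
    rw [← hm]; field_simp
  have hm3 : e * Nat.card M = m * Nat.card H := by exact_mod_cast hm2
  rw [← Subgroup.card_mul_index M] at hm3
  have hMpos : 0 < Nat.card M := Nat.card_pos
  have hm4 : e = m * M.index := by
    apply Nat.eq_of_mul_eq_mul_right hMpos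
    rw [hm3]; ring
  exact ⟨m, by rw [hm4]; ring⟩

variable {G : Type*} [Group G] [Fintype G] {χ : G → ℂ} {a : G}

theorem Data.of_ne (D : Data χ a) {x : G} (hx1 : x ≠ 1) (hx : χ x ≠ 0) : Data χ x := by
  have h1 := (D.cases x hx).resolve_left hx1
  exact ⟨D.irr, hx1, hx, fun g hg => (D.cases g hg).imp id (fun h => h1.symm.trans h)⟩

theorem card_eq (D : Data χ a) {N : Subgroup G} (hN : ∀ g, g ∈ N ↔ χ g ≠ 0) :
    Nat.card N = 1 + Nat.card {x : G // IsConj a x} := by
  classical
  rw [Nat.card_eq_fintype_card, Nat.card_eq_fintype_card, Fintype.card_subtype, Fintype.card_subtype,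
    ← Finset.card_singleton (1 : G), ← Finset.card_union_of_disjoint]
  · congr 1
    ext g
    simp only [Finset.mem_univ, Finset.mem_union, Finset.mem_singleton, Finset.mem_filter, true_and]
    rw [hN]
    constructor
    · exact D.cases g
    · rintro (h | h)
      · rw [h]; exact irr_one_ne_zero D.irr
      · rw [← Helper2.IsClassFunction.eq_of_isConj (irr_isClassFunction D.irr) h]; exact D.ne_zero
  · rw [Finset.disjoint_left]
    intro g hg hg'
    simp only [Finset.mem_singleton] at hg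
    simp only [Finset.mem_filter, Finset.mem_univ, true_and] at hg'
    rw [hg] at hg'
    exact D.ne_one (isConj_one_left.mp hg')

/-- `χ(a) = -e`, `χ(1) = c e`. -/
theorem exists_e (hG : 2 < Nat.card G) (D : Data χ a) :
    ∃ e : ℕ, χ a = -(e : ℂ) ∧ χ 1 = (Nat.card {x : G // IsConj a x} : ℂ) * (e : ℂ) := by
  have hc := IsIrrCharacter.isCharacter D.irr
  have h1 := rel_one hG D
  have hd := charDegree_cast hc
  have hcpos := card_class_pos a
  have hc0 : (Nat.card {x : G // IsConj a x} : ℂ) ≠ 0 := by exact_mod_cast hcpos.ne'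
  have h2 : χ a = -((charDegree χ : ℂ) / (Nat.card {x : G // IsConj a x} : ℂ)) := by
    rw [hd]; field_simp; linear_combination h1
  have h3 : IsIntegral ℤ ((charDegree χ : ℂ) / (Nat.card {x : G // IsConj a x} : ℂ)) := by
    have := (char_isIntegral hc a).neg
    rwa [h2, neg_neg] at this
  obtain ⟨e, he⟩ := nat_dvd_of_isIntegral_div hcpos.ne' h3
  refine ⟨e, ?_, ?_⟩
  · rw [h2, he]; push_cast; field_simp
  · rw [← hd, he]; push_cast; ring

theorem card_centralizer (D : Data χ a) {e : ℕ} (he : χ a = -(e : ℂ))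
    (he1 : χ 1 = (Nat.card {x : G // IsConj a x} : ℂ) * (e : ℂ)) :
    Nat.card (Subgroup.centralizer ({a} : Set G)) = e ^ 2 * (1 + Nat.card {x : G // IsConj a x}) := by
  have h1 := sum_mul_conj_self D.irr
  have hcl : IsClassFunction G (fun g => conj (χ g)) := by
    intro g h
    simp only
    rw [irr_isClassFunction D.irr g h]
  rw [sum_formula D hcl, he, he1] at h1
  simp only [map_mul, map_neg, Complex.conj_natCast] at h1
  have h2 : (Nat.card {x : G // IsConj a x}) * (e ^ 2 * (1 + Nat.card {x : G // IsConj a x})) = Nat.card G := by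
    have : ((Nat.card {x : G // IsConj a x} * (e ^ 2 * (1 + Nat.card {x : G // IsConj a x})) : ℕ) : ℂ)
        = (Nat.card G : ℂ) := by
      rw [← h1]; push_cast; ring
    exact_mod_cast this
  have h3 := card_isConj_mul_card_centralizer a
  rw [← h2] at h3
  exact Nat.eq_of_mul_eq_mul_left (card_class_pos a) h3

end Gagola
end Cfsg.Agent.Lib.Helper25
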