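import Cfsg.Agent.Lib.Helper25.Gagola2

set_option autoImplicit false
open Cfsg

namespace Cfsg.Agent.Lib.Helper25
namespace Gagola

open Cfsg.Agent.Lib.Helper2 Cfsg.Agent.Lib.Helper6 Cfsg.Agent.Lib.Helper24
open scoped ComplexConjugate

attribute [local instance] irrFintype

variable {G : Type*} [Group G] [Fintype G] {χ : G → ℂ} {a : G}

theorem conj_of_mem (D : Data χ a) {N : Subgroup G} (hN : ∀ g, g ∈ N ↔ χ g ≠ 0) :
    ∀ x ∈ N, ∀ y ∈ N, x ≠ 1 → y ≠ 1 → ∃ g : G, g * x * g⁻¹ = y := by
  intro x hx y hy hx1 hy1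
  have h1 := (D.cases x ((hN x).mp hx)).resolve_left hx1
  have h2 := (D.cases y ((hN y).mp hy)).resolve_left hy1
  exact isConj_iff.mp (h1.symm.trans h2)

theorem mem_N (D : Data χ a) {N : Subgroup G} (hN : ∀ g, g ∈ N ↔ χ g ≠ 0) : a ∈ N := (hN a).mpr D.ne_zero

theorem comm_of_mem (D : Data χ a) {N : Subgroup G} (hNn : N.Normal) (hN : ∀ g, g ∈ N ↔ χ g ≠ 0) :
    ∀ x ∈ N, ∀ y ∈ N, x * y = y * x := by
  have hN1 : N ≠ ⊥ := by
    intro h
    have := mem_N D hN
    rw [h, Subgroup.mem_bot] at this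
    exact D.ne_one this
  obtain ⟨p, _, hp, _⟩ := elementaryAbelian_of_conj hNn hN1 (conj_of_mem D hN)
  intro x hx y hy
  have := hp.is_comm.comm ⟨x, hx⟩ ⟨y, hy⟩
  exact congrArg Subtype.val this

theorem card_dvd_e (D : Data χ a) {N : Subgroup G} [hNn : N.Normal]
    (hN : ∀ g, g ∈ N ↔ χ g ≠ 0) {p : ℕ} [hp : Fact p.Prime] (hNp : IsPGroup p N) {e : ℕ} (he : χ a = -(e : ℂ))
    (he1 : χ 1 = (Nat.card {x : G // IsConj a x} : ℂ) * (e : ℂ)) (Q : Subgroup G)
    (hQ : Q ≤ Subgroup.centralizer ({a} : Set G)) (hcop : (Nat.card Q).Coprime p) : Nat.card Q ∣ e := by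
  classical
  have hc := IsIrrCharacter.isCharacter D.irr
  have hcomm := comm_of_mem D hNn hN
  have haN := mem_N D hN
  have hNH : N ≤ N ⊔ Q := le_sup_left
  have hHC : N ⊔ Q ≤ Subgroup.centralizer ({a} : Set G) := by
    apply sup_le _ hQ
    intro x hx
    rw [Subgroup.mem_centralizer_singleton_iff]
    exact hcomm x hx a haN
  obtain ⟨k, hk⟩ := hNp.exists_card_eq
  have hcopN : Nat.Coprime (Nat.card N) (Nat.card Q) := by
    rw [hk]; exact Nat.Coprime.pow_left k hcop.symm
  have hidx : (N.subgroupOf (N ⊔ Q)).index = Nat.card Q := by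
    change N.relIndex (N ⊔ Q) = _
    rw [Subgroup.relIndex_sup_left, ← Subgroup.inf_relIndex_right, Subgroup.inf_eq_bot_of_coprime hcopN,
      Subgroup.relIndex_bot_left]
  rw [← hidx]
  have hcardM : Nat.card (N.subgroupOf (N ⊔ Q)) = Nat.card N :=
    Nat.card_congr (Subgroup.subgroupOfEquivOfLe hNH).toEquiv
  apply index_dvd (IsCharacter.restrict (N ⊔ Q) hc) (N.subgroupOf (N ⊔ Q)) (a := ⟨a, hNH haN⟩)
  · intro x hx y hy
    exact Subtype.ext (hcomm x hx y hy)
  · intro h hh
    by_contra h0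
    exact hh ((hN h).mpr h0)
  · intro h hh hh1
    have h2 : (h : G) ≠ 1 := fun h3 => hh1 (Subtype.ext h3)
    have h3 := (D.cases h ((hN h).mp hh)).resolve_left h2
    rw [← Helper2.IsClassFunction.eq_of_isConj (irr_isClassFunction D.irr) h3, he]
  · rw [hcardM, card_eq D hN]
    change χ 1 = _
    rw [he1]; push_cast; ring
  · exact haN
  · intro g
    apply Subtype.ext
    exact Subgroup.mem_centralizer_singleton_iff.mp (hHC g.2)
  · rw [hidx]
    intro h
    have h1 : a ^ Nat.card Q = 1 := congrArg Subtype.val h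
    have h2 : a ^ (p ^ k) = 1 := by
      have := pow_card_eq_one' (G := N) (x := ⟨a, haN⟩)
      rw [hk] at this
      exact congrArg Subtype.val this
    have h3 : orderOf a ∣ Nat.gcd (Nat.card Q) (p ^ k) :=
      Nat.dvd_gcd (orderOf_dvd_of_pow_eq_one h1) (orderOf_dvd_of_pow_eq_one h2)
    rw [Nat.Coprime.pow_right k hcop] at h3
    exact D.ne_one (orderOf_eq_one_iff.mp (Nat.dvd_one.mp h3))

theorem centralizer_sylow (hG : 2 < Nat.card G) (D : Data χ a) {N : Subgroup G} [hNn : N.Normal]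
    (hN : ∀ g, g ∈ N ↔ χ g ≠ 0) {p : ℕ} [hp : Fact p.Prime] (hNp : IsPGroup p N) :
    IsPGroup p (Subgroup.centralizer ({a} : Set G)) ∧ ¬ p ∣ (Subgroup.centralizer ({a} : Set G)).index := by
  classical
  obtain ⟨e, he, he1⟩ := exists_e hG D
  have hcard := card_centralizer D he he1
  have hcN := card_eq D hN
  have haN := mem_N D hN
  obtain ⟨k, hk⟩ := hNp.exists_card_eq
  have hk0 : k ≠ 0 := by
    rintro rfl
    rw [pow_zero] at hk
    have := card_class_pos a
    omega
  constructor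
  · have hpos : Nat.card (Subgroup.centralizer ({a} : Set G)) ≠ 0 := Nat.card_pos.ne'
    have huniq : ∀ {q : ℕ}, q.Prime → q ∣ Nat.card (Subgroup.centralizer ({a} : Set G)) → q = p := by
      intro q hq hqd
      by_contra hqp
      haveI : Fact q.Prime := ⟨hq⟩
      obtain ⟨j, hj⟩ : ∃ j, j = (Nat.card (Subgroup.centralizer ({a} : Set G))).factorization q := ⟨_, rfl⟩
      have hj1 : q ^ j ∣ Nat.card (Subgroup.centralizer ({a} : Set G)) := by
        rw [hj]; exact Nat.ordProj_dvd _ _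
      obtain ⟨K, hK⟩ := Sylow.exists_subgroup_card_pow_prime q hj1
      have hKcard : Nat.card (K.map (Subgroup.centralizer ({a} : Set G)).subtype) = q ^ j := by
        rw [← hK]
        exact Nat.card_congr (K.equivMapOfInjective _ (Subgroup.subtype_injective _)).symm.toEquiv
      have hKle : K.map (Subgroup.centralizer ({a} : Set G)).subtype ≤ Subgroup.centralizer ({a} : Set G) := by
        rintro _ ⟨x, _, rfl⟩
        exact x.2
      have h1 := card_dvd_e D hN hNp he he1 _ hKle (by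
        rw [hKcard]
        exact Nat.Coprime.pow_left j ((Nat.coprime_primes hq hp.out).mpr hqp))
      rw [hKcard] at h1
      have h2 : q ^ (2 * j) ∣ Nat.card (Subgroup.centralizer ({a} : Set G)) := by
        rw [hcard, mul_comm 2 j, pow_mul]
        exact Dvd.dvd.mul_right (pow_dvd_pow_of_dvd h1 2) _
      have h3 := (hq.pow_dvd_iff_le_factorization hpos).mp h2
      rw [← hj] at h3
      have hj0 : j = 0 := by omega
      have h4 : 1 ≤ (Nat.card (Subgroup.centralizer ({a} : Set G))).factorization q :=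
        (hq.dvd_iff_one_le_factorization hpos).mp hqd
      omega
    exact IsPGroup.of_card (Nat.eq_prime_pow_of_unique_prime_dvd hpos huniq)
  · have h1 := card_isConj_mul_card_centralizer a
    have h2 := Subgroup.card_mul_index (Subgroup.centralizer ({a} : Set G))
    have h3 : (Subgroup.centralizer ({a} : Set G)).index = Nat.card {x : G // IsConj a x} := by
      apply Nat.eq_of_mul_eq_mul_left (Nat.card_pos (α := Subgroup.centralizer ({a} : Set G)))
      rw [h2, ← h1]; ring
    rw [h3]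
    intro hdvd
    have h4 : p ∣ Nat.card N := by rw [hk]; exact dvd_pow_self p hk0
    rw [hcN] at h4
    have h5 : p ∣ 1 := (Nat.dvd_add_left hdvd).mp h4
    exact hp.out.one_lt.ne' (Nat.dvd_one.mp h5)

end Gagola
end Cfsg.Agent.Lib.Helper25
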