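import Cfsg.Agent.Lib.Helper25.Gagola3
import Cfsg.Agent.Lib.Helper2.Clifford
import Cfsg.Agent.S0178
import Cfsg.Agent.S0193

set_option autoImplicit false
open Cfsg

namespace Cfsg.Agent.Lib.Helper25
namespace Gagola

open Cfsg.Agent.Lib.Helper2 Cfsg.Agent.Lib.Helper6 Cfsg.Agent.Lib.Helper24
open scoped ComplexConjugate

attribute [local instance] irrFintype

theorem degree_one_of_comm {A : Type*} [Group A] [Finite A] (hA : ∀ x y : A, x * y = y * x) {μ : A → ℂ}
    (hμ : IsIrrCharacter A μ) : μ 1 = 1 := by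
  have h0 := irr_one_ne_zero hμ
  obtain ⟨n, ρ, hρ, rfl⟩ := hμ
  haveI := hρ
  have h1 := Cfsg.Agent.S0178.result ρ ⊤ (fun a _ b _ => hA a b)
  rw [Subgroup.index_top] at h1
  rw [Representation.char_one] at h0 ⊢
  have h2 : Module.finrank ℂ (Fin n → ℂ) ≠ 0 := by
    intro h; apply h0; rw [h]; simp
  have h3 : Module.finrank ℂ (Fin n → ℂ) = 1 := by omega
  rw [h3]; simp

variable {G : Type*} [Group G] [Fintype G] {χ : G → ℂ} {a : G}

/-- the stabilizer of a function on a normal subgroup. -/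
def stab (N : Subgroup G) [hN : N.Normal] (μ : N → ℂ) : Subgroup G where
  carrier := {g | conjFun N g μ = μ}
  one_mem' := conjFun_one N μ
  mul_mem' := by
    intro x y hx hy
    change conjFun N (x * y) μ = μ
    rw [conjFun_mul, show conjFun N y μ = μ from hy]
    exact hx
  inv_mem' := by
    intro x hx
    change conjFun N x⁻¹ μ = μ
    have h1 : conjFun N x μ = μ := hx
    calc conjFun N x⁻¹ μ = conjFun N x⁻¹ (conjFun N x μ) := by rw [h1]
      _ = conjFun N (x⁻¹ * x) μ := (conjFun_mul N _ _ μ).symm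
      _ = μ := by rw [inv_mul_cancel, conjFun_one]

theorem mem_stab_iff (N : Subgroup G) [hN : N.Normal] (μ : N → ℂ) (g : G) :
    g ∈ stab N μ ↔ ∀ h : N, μ ⟨g * h * g⁻¹, hN.conj_mem h h.2 g⟩ = μ h := by
  change conjFun N g μ = μ ↔ _
  constructor
  · intro h n
    have := congrFun h ⟨g * n * g⁻¹, hN.conj_mem n n.2 g⟩
    rw [conjFun_apply] at this
    rw [← this]
    congr 1
    apply Subtype.ext
    simp [mul_assoc]
  · intro h
    ext n
    rw [conjFun_apply, ← h ⟨g⁻¹ * n * g, _⟩]
    congr 1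
    apply Subtype.ext
    simp [mul_assoc]

theorem mem_stab_iff' (N : Subgroup G) [hN : N.Normal] (μ : N → ℂ) (g : G) :
    g ∈ stab N μ ↔ ∀ n n' : N, (n' : G) = g * n * g⁻¹ → μ n' = μ n := by
  rw [mem_stab_iff]
  constructor
  · intro h n n' hn
    rw [← h n]
    congr 1
    exact Subtype.ext hn
  · intro h n
    exact h n _ rfl

theorem classInner_ind (hG : 2 < Nat.card G) (D : Data χ a) {N : Subgroup G} [hNn : N.Normal] [Fintype N]
    (hN : ∀ g, g ∈ N ↔ χ g ≠ 0) {e : ℕ} (he : χ a = -(e : ℂ))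
    (he1 : χ 1 = (Nat.card {x : G // IsConj a x} : ℂ) * (e : ℂ)) {μ : N → ℂ} (hμ : IsIrrCharacter N μ)
    (hμ1 : μ ≠ fun _ => 1) :
    classInner (indFun N μ) (indFun N μ) = (e : ℂ) ^ 2 := by
  classical
  have hcomm := comm_of_mem D hNn hN
  have hμdeg : μ 1 = 1 := degree_one_of_comm (fun x y => Subtype.ext (hcomm x x.2 y y.2)) hμ
  have hN0 : (Nat.card N : ℂ) ≠ 0 := card_subgroup_ne_zero N
  have hsum0 : ∑ n : N, μ n = 0 := by
    have h1 := classInner_irr hμ (isIrrCharacter_one (G := N))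
    rw [if_neg hμ1, classInner] at h1
    have h2 := (mul_eq_zero.mp h1).resolve_left (inv_ne_zero hN0)
    simpa using h2
  have hcl := indFun_isClassFunction N μ
  rw [classInner_eq_sum_irr hcl hcl, Finset.sum_eq_single (⟨χ, D.irr⟩ : IrrCharacter G)]
  · rw [frobenius_reciprocity N μ _ (irr_isClassFunction D.irr)]
    have h1 : classInner μ (fun h : N => χ h) = (e : ℂ) := by
      rw [classInner]
      have hpt : ∀ n : N, μ n * conj (χ n) = (if n = 1 then (e : ℂ) * (Nat.card N : ℂ) else 0) - (e : ℂ) * μ n := by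
        intro n
        by_cases hn : n = 1
        · rw [if_pos hn, hn, hμdeg, card_eq D hN]
          change 1 * conj (χ 1) = _
          rw [he1]
          simp only [map_mul, Complex.conj_natCast]
          push_cast; ring
        · rw [if_neg hn]
          have h2 : (n : G) ≠ 1 := fun h3 => hn (Subtype.ext h3)
          have h3 := (D.cases n ((hN n).mp n.2)).resolve_left h2
          rw [← Helper2.IsClassFunction.eq_of_isConj (irr_isClassFunction D.irr) h3, he]
          simp only [map_neg, Complex.conj_natCast]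
          ring
      rw [Finset.sum_congr rfl (fun n _ => hpt n), Finset.sum_sub_distrib, ← Finset.mul_sum, hsum0, mul_zero,
        sub_zero, Finset.sum_ite_eq' Finset.univ (1 : N), if_pos (Finset.mem_univ _)]
      field_simp
    change classInner μ (fun h : N => χ h) * conj (classInner μ (fun h : N => χ h)) = _
    rw [h1, Complex.conj_natCast]; ring
  · intro ψ _ hne
    rw [frobenius_reciprocity N μ _ (irr_isClassFunction ψ.2)]
    have h1 : classInner μ (fun h : N => (ψ : G → ℂ) h) = 0 := by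
      rw [classInner]
      have hpt : ∀ n : N, μ n * conj ((ψ : G → ℂ) n) = μ n * conj ((ψ : G → ℂ) 1) := by
        intro n
        congr 2
        have hne' : χ ≠ ψ := fun h => hne (Subtype.ext h.symm)
        rcases D.cases n ((hN n).mp n.2) with h2 | h2
        · rw [h2]
        · rw [← Helper2.IsClassFunction.eq_of_isConj (irr_isClassFunction ψ.2) h2]
          exact apply_eq_of_ne hG D ψ.2 hne'
      rw [Finset.sum_congr rfl (fun n _ => hpt n), ← Finset.sum_mul, hsum0, zero_mul, mul_zero]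
    rw [h1, zero_mul]
  · intro h; exact absurd (Finset.mem_univ _) h

theorem stab_sylow (hG : 2 < Nat.card G) (D : Data χ a) {N : Subgroup G} [hNn : N.Normal]
    (hN : ∀ g, g ∈ N ↔ χ g ≠ 0) {p : ℕ} [hp : Fact p.Prime] (hNp : IsPGroup p N) {μ : N → ℂ}
    (hμ : IsIrrCharacter N μ) (hμ1 : μ ≠ fun _ => 1) :
    IsPGroup p (stab N μ) ∧ ¬ p ∣ (stab N μ).index := by
  classical
  haveI : Fintype N := Fintype.ofFinite N
  obtain ⟨e, he, he1⟩ := exists_e hG D
  have h1 := Cfsg.Agent.S0193.result N μ hμ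
  rw [classInner_ind hG D hN he he1 hμ hμ1] at h1
  have h2 : Nat.card (stab N μ) = Nat.card (Subgroup.centralizer ({a} : Set G)) := by
    rw [card_centralizer D he he1, ← card_eq D hN]
    have h3 : Nat.card (stab N μ) = Nat.card {g : G // ∀ h : N, μ ⟨g * h * g⁻¹, hNn.conj_mem h h.2 g⟩ = μ h} :=
      Nat.card_congr (Equiv.subtypeEquivRight (mem_stab_iff N μ))
    rw [h3]
    have h4 : ((Nat.card {g : G // ∀ h : N, μ ⟨g * h * g⁻¹, hNn.conj_mem h h.2 g⟩ = μ h} : ℕ) : ℂ)
        = ((e ^ 2 * Nat.card N : ℕ) : ℂ) := by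
      rw [← h1]; push_cast; ring
    exact_mod_cast h4
  obtain ⟨hC1, hC2⟩ := centralizer_sylow hG D hN hNp
  obtain ⟨k, hk⟩ := hC1.exists_card_eq
  refine ⟨IsPGroup.of_card (h2.trans hk), ?_⟩
  have h5 := Subgroup.card_mul_index (stab N μ)
  have h6 := Subgroup.card_mul_index (Subgroup.centralizer ({a} : Set G))
  have h7 : (stab N μ).index = (Subgroup.centralizer ({a} : Set G)).index := by
    apply Nat.eq_of_mul_eq_mul_left (Nat.card_pos (α := stab N μ))
    rw [h5, h2, h6]
  rw [h7]
  exact hC2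

end Gagola
end Cfsg.Agent.Lib.Helper25
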