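import Cfsg.Agent.Lib.Helper24.Galois

/-!
# Rationality of sums of roots of unity and Galois conjugation
-/

set_option autoImplicit false
open Cfsg

namespace Cfsg.Agent.Lib.Helper25
namespace GaloisVal

open Cfsg.Agent.Lib.Helper2 Cfsg.Agent.Lib.Helper6 Cfsg.Agent.Lib.Helper24
open scoped ComplexConjugate

section cyclo

open IsCyclotomicExtension

theorem aux (n : ℕ) [NeZero n] (K : Type) [Field K] [NumberField K]
    [IsCyclotomicExtension {n} ℚ K] {d : ℕ} (ε : Fin d → ℂ) (hε : ∀ i, ε i ^ n = 1) :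
    (∀ (q : ℚ), ∑ i, ε i = (q : ℂ) → ∀ k : (ZMod n)ˣ, ∑ i, ε i ^ (k : ZMod n).val = (q : ℂ)) ∧
    ((∀ k : (ZMod n)ˣ, ∑ i, ε i ^ (k : ZMod n).val = ∑ i, ε i) → ∃ q : ℚ, ∑ i, ε i = (q : ℂ)) := by
  have : IsGalois ℚ K := IsCyclotomicExtension.isGalois {n} ℚ K
  let μ : K := zeta n ℚ K
  have hμ : IsPrimitiveRoot μ n := zeta_spec n ℚ K
  let φ : K →ₐ[ℚ] ℂ := IsAlgClosed.lift
  have hφinj : Function.Injective φ := φ.toRingHom.injective
  have hζ : IsPrimitiveRoot (φ μ) n := hμ.map_of_injective hφinj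
  choose a _ ha using fun i => hζ.eq_pow_of_pow_eq_one (hε i)
  let x : K := ∑ i, μ ^ a i
  have hφx : ∀ σ : Gal(K/ℚ), φ (σ x) =
      ∑ i, ε i ^ ((Rat.galEquivZMod n K σ : (ZMod n)ˣ) : ZMod n).val := by
    intro σ
    simp only [x, map_sum]
    refine Finset.sum_congr rfl fun i _ => ?_
    have h1 : (μ ^ a i) ^ n = 1 := by rw [← pow_mul, mul_comm, pow_mul, hμ.pow_eq_one, one_pow]
    rw [Rat.galEquivZMod_apply_of_pow_eq n K σ h1, map_pow, map_pow, ha i]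
  have hφx1 : φ x = ∑ i, ε i := by
    simp only [x, map_sum, map_pow, ha]
  constructor
  · intro q hq k
    have h1 : x = algebraMap ℚ K q := by
      apply hφinj
      rw [hφx1, hq, AlgHom.commutes]
      rfl
    have h2 := hφx ((Rat.galEquivZMod n K).symm k)
    rw [MulEquiv.apply_symm_apply] at h2
    rw [← h2, h1, AlgEquiv.commutes, AlgHom.commutes]
    rfl
  · intro h
    have h1 : ∀ σ : Gal(K/ℚ), σ x = x := by
      intro σ
      apply hφinj
      rw [hφx, h, hφx1]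
    obtain ⟨q, hq⟩ := (IsGalois.mem_range_algebraMap_iff_fixed x).mpr h1
    refine ⟨q, ?_⟩
    rw [← hφx1, ← hq, AlgHom.commutes]
    rfl

set_option backward.isDefEq.respectTransparency false in
theorem sum_pow_of_rat (n : ℕ) [NeZero n] {d : ℕ} (ε : Fin d → ℂ) (hε : ∀ i, ε i ^ n = 1) (q : ℚ)
    (hq : ∑ i, ε i = (q : ℂ)) (k : (ZMod n)ˣ) : ∑ i, ε i ^ (k : ZMod n).val = (q : ℂ) :=
  (aux n (CyclotomicField n ℚ) ε hε).1 q hq k

set_option backward.isDefEq.respectTransparency false in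
theorem rat_of_sum_pow (n : ℕ) [NeZero n] {d : ℕ} (ε : Fin d → ℂ) (hε : ∀ i, ε i ^ n = 1)
    (h : ∀ k : (ZMod n)ˣ, ∑ i, ε i ^ (k : ZMod n).val = ∑ i, ε i) : ∃ q : ℚ, ∑ i, ε i = (q : ℂ) :=
  (aux n (CyclotomicField n ℚ) ε hε).2 h

end cyclo

section char

variable {G : Type*} [Group G] [Finite G]

/-- A rational character value is unchanged by coprime powers. -/
theorem apply_pow_of_rat {χ : G → ℂ} (hχ : IsCharacter G χ) (g : G) (q : ℚ) (hq : χ g = (q : ℂ))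
    {m : ℕ} (hm : m.Coprime (Nat.card G)) : χ (g ^ m) = (q : ℂ) := by
  obtain ⟨d, ρ, rfl⟩ := hχ
  obtain ⟨ζ, hζ, h⟩ := char_zpow_eq_sum ρ g
  haveI : NeZero (Nat.card G) := ⟨Nat.card_pos.ne'⟩
  have hζ' : ∀ i, ζ i ^ Nat.card G = 1 := by
    intro i
    obtain ⟨c, hc⟩ := orderOf_dvd_natCard g
    rw [hc, pow_mul, hζ, one_pow]
  have h1 := h 1
  rw [zpow_one] at h1
  simp only [zpow_one] at h1
  have h2 := sum_pow_of_rat (Nat.card G) ζ hζ' q (by rw [← h1, hq]) (ZMod.unitOfCoprime m hm)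
  rw [ZMod.coe_unitOfCoprime, ZMod.val_natCast] at h2
  have h3 := h (m : ℤ)
  rw [zpow_natCast] at h3
  simp only [zpow_natCast] at h3
  rw [h3, ← h2]
  refine Finset.sum_congr rfl fun i _ => ?_
  conv_lhs => rw [← Nat.div_add_mod m (Nat.card G), pow_add, pow_mul, hζ' i, one_pow, one_mul]

/-- A character value unchanged by all coprime powers is rational. -/
theorem rat_of_apply_pow {χ : G → ℂ} (hχ : IsCharacter G χ) (g : G)
    (hg : ∀ m : ℕ, m.Coprime (Nat.card G) → χ (g ^ m) = χ g) : ∃ q : ℚ, χ g = (q : ℂ) := by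
  obtain ⟨d, ρ, rfl⟩ := hχ
  obtain ⟨ζ, hζ, h⟩ := char_zpow_eq_sum ρ g
  haveI : NeZero (Nat.card G) := ⟨Nat.card_pos.ne'⟩
  have hζ' : ∀ i, ζ i ^ Nat.card G = 1 := by
    intro i
    obtain ⟨c, hc⟩ := orderOf_dvd_natCard g
    rw [hc, pow_mul, hζ, one_pow]
  have h1 := h 1
  rw [zpow_one] at h1
  simp only [zpow_one] at h1
  rw [h1]
  apply rat_of_sum_pow (Nat.card G) ζ hζ'
  intro k
  have h3 := h (((k : ZMod (Nat.card G)).val : ℕ) : ℤ)
  rw [zpow_natCast] at h3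
  simp only [zpow_natCast] at h3
  rw [← h3, ← h1]
  exact hg _ (ZMod.val_coe_unit_coprime k)

end char

end GaloisVal
end Cfsg.Agent.Lib.Helper25
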