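import Cfsg.Agent.Lib.Helper25.Twist
import Cfsg.Agent.Lib.Helper2.Clifford

set_option autoImplicit false

namespace Cfsg.Agent.Lib.Helper25
namespace Twist

open Cfsg Cfsg.Agent.Lib.Helper2 Cfsg.Agent.Lib.Helper6 Cfsg.Agent.Lib.Helper24
open scoped ComplexConjugate

attribute [local instance] irrFintype

universe u

variable {G : Type u} [Group G] (N : Subgroup G) [hN : N.Normal]

/-- Clifford: two irreducible constituents of `χ_N` are conjugate. -/
theorem exists_conj_of_constituents [Fintype G] [Fintype N] {χ : G → ℂ} (hχ : IsIrrCharacter G χ)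
    {θ φ : N → ℂ} (hθ : IsIrrCharacter N θ) (hφ : IsIrrCharacter N φ)
    (h1 : classInner (fun n : N => χ n) θ ≠ 0) (h2 : classInner (fun n : N => χ n) φ ≠ 0) :
    ∃ x : G, φ = conjFun N x θ := by
  classical
  by_contra hne
  push Not at hne
  have hχcl := IsCharacter.isClassFunction (IsIrrCharacter.isCharacter hχ)
  have h0 : classInner (indFun N θ) (indFun N φ) = 0 := by
    rw [classInner_indFun_indFun]
    apply mul_eq_zero_of_right
    apply Finset.sum_eq_zero
    intro x _
    rw [classInner_irr hθ (IsIrrCharacter.conjFun N hφ x), if_neg]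
    intro hx
    apply hne x⁻¹
    rw [hx, ← conjFun_mul, inv_mul_cancel, conjFun_one]
  rcases IsCharacter.constituent_eq_zero_of_orthogonal
    (IsCharacter.indFun N (IsIrrCharacter.isCharacter hθ))
    (IsCharacter.indFun N (IsIrrCharacter.isCharacter hφ)) h0 hχ with h | h
  · rw [frobenius_reciprocity N θ χ hχcl, ← classInner_conj_symm] at h
    exact h1 ((map_eq_zero _).mp h)
  · rw [frobenius_reciprocity N _ χ hχcl, ← classInner_conj_symm] at h
    exact h2 ((map_eq_zero _).mp h)

theorem tw_conjFun (k : ℕ) (x : G) (θ : N → ℂ) :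
    tw k (conjFun N x θ) = conjFun N x (tw k θ) := by
  funext n
  rw [tw_apply, conjFun_apply, conjFun_apply, tw_apply]
  congr 1
  apply Subtype.ext
  have := conj_pow (a := x⁻¹) (b := (n : G)) (i := k)
  rw [inv_inv] at this
  simpa using this.symm

/-- the conjugation action of `G` on functions on `N`. -/
@[reducible] def conjAction : MulAction G (N → ℂ) where
  smul := conjFun N
  one_smul := conjFun_one N
  mul_smul := conjFun_mul N

theorem ncard_orbit_dvd_index {θ : N → ℂ} (hθ : IsClassFunction N θ) :
    letI := conjAction N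
    (MulAction.orbit G θ).ncard ∣ N.index := by
  letI := conjAction N
  rw [← MulAction.index_stabilizer]
  apply Subgroup.index_dvd_of_le
  intro x hx
  exact conjFun_of_mem N hθ hx

theorem tw_tw (k l : ℕ) (f : G → ℂ) : tw k (tw l f) = tw (k * l) f := by
  funext g
  rw [tw_apply, tw_apply, tw_apply, ← pow_mul]

theorem tw_iterate (k : ℕ) (f : G → ℂ) (m : ℕ) : (tw k)^[m] f = tw (k ^ m) f := by
  induction m with
  | zero => funext g; simp [tw_apply]
  | succ m ih => rw [Function.iterate_succ_apply', ih, tw_tw, pow_succ']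

theorem tw_eq_self_of_modEq [Finite G] {k n : ℕ} (hn : Nat.card G ∣ n) (hk : k ≡ 1 [MOD n])
    (f : G → ℂ) : tw k f = f := by
  funext g
  rw [tw_apply]
  have : g ^ k = g ^ 1 :=
    pow_eq_pow_iff_modEq.2 (hk.of_dvd ((orderOf_dvd_natCard g).trans hn))
  rw [this, pow_one]

end Twist
end Cfsg.Agent.Lib.Helper25
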