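import Cfsg.Agent.Lib.Helper23.RealBlock
import Cfsg.Agent.Lib.Helper6.Cover3
import Cfsg.Agent.Lib.Helper6.NormalIdem
import Cfsg.Agent.Lib.Helper25.TwistClifford

set_option autoImplicit false

namespace Cfsg.Agent.Lib.Helper25
namespace OddBlock

open Cfsg Cfsg.Agent.Lib.Helper2 Cfsg.Agent.Lib.Helper6 Cfsg.Agent.Lib.Helper23.RealBlock
open scoped ComplexConjugate

attribute [local instance] irrFintype

/-- a real element lies in every normal subgroup of odd index. -/
theorem mem_of_real {G : Type*} [Group G] [Finite G] (N : Subgroup G) [N.Normal] (hodd : Odd N.index)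
    {g : G} (hreal : IsConj g g⁻¹) : g ∈ N := by
  rw [← QuotientGroup.eq_one_iff]
  by_contra hne
  have hcard : Odd (Nat.card (G ⧸ N)) := by rw [← Subgroup.index_eq_card]; exact hodd
  have ho : Odd (orderOf (g : G ⧸ N)) := hcard.of_dvd_nat (orderOf_dvd_natCard _)
  have h1 : IsConj (g : G ⧸ N) (g : G ⧸ N)⁻¹ := by
    have := (QuotientGroup.mk' N).map_isConj hreal
    simpa using this
  have h2 := even_index_of_real h1 (ne_inv_of_odd ho hne)
  have h3 : (Subgroup.centralizer ({(g : G ⧸ N)} : Set (G ⧸ N))).index ∣ Nat.card (G ⧸ N) :=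
    Subgroup.index_dvd_card _
  have h4 : Odd 2 := hcard.of_dvd_nat (h2.trans h3)
  exact absurd h4 (by decide)

variable {G : Type*} [Group G] [Fintype G] {M : Ideal AlgInt}

theorem om_sub_om_mem (hM : IsPModular 2 M) (N : Subgroup G) [N.Normal] (hodd : Odd N.index)
    {F : G → ℂ} (hF : IsClassFunction G F)
    (hFl : ∀ g, MemLocalRing M (F g)) (hF0 : ∀ g, 2 ∣ orderOf g → F g = 0)
    (hFinv : ∀ g, Odd (orderOf g) → F g⁻¹ = F g)
    {ψ φ : G → ℂ} (hψ : IsIrrCharacter G ψ) (hφ : IsIrrCharacter G φ)
    (hinvψ : ∀ g, Odd (orderOf g) → MemLocalIdeal M (centralChar ψ g⁻¹ - centralChar ψ g))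
    (hinvφ : ∀ g, Odd (orderOf g) → MemLocalIdeal M (centralChar φ g⁻¹ - centralChar φ g))
    (hN : ∀ n ∈ N, MemLocalIdeal M (centralChar ψ n - centralChar φ n)) :
    MemLocalIdeal M (om ψ F - om φ F) := by
  classical
  haveI := IsPModular.isPrime hM
  have hψcl := irr_isClassFunction hψ
  have hφcl := irr_isClassFunction hφ
  rw [om_eq_sum_classes hψcl hF, om_eq_sum_classes hφcl hF, ← Finset.sum_sub_distrib]
  have hout : ∀ x : G, IsConj (Quotient.out (ConjClasses.mk x)) x := by
    intro x
    rw [← ConjClasses.mk_eq_mk_iff_isConj]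
    exact Quotient.out_eq _
  have hmk : ∀ C : ConjClasses G, ConjClasses.mk (Quotient.out C) = C := fun C => Quotient.out_eq C
  let σ : ConjClasses G → ConjClasses G := fun C => ConjClasses.mk (Quotient.out C)⁻¹
  have hσout : ∀ C, IsConj (Quotient.out (σ C)) (Quotient.out C)⁻¹ := fun C => hout _
  have hσσ : ∀ C, σ (σ C) = C := by
    intro C
    have h1 := isConj_inv (hσout C)
    rw [inv_inv] at h1
    change ConjClasses.mk (Quotient.out (σ C))⁻¹ = C
    rw [ConjClasses.mk_eq_mk_iff_isConj.2 h1, hmk]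
  apply sum_involution_mem (MemLocalIdeal M) memLocalIdeal_zero (fun a b => MemLocalIdeal.add) σ
  · intro C _; exact Finset.mem_univ _
  · intro C _; exact hσσ C
  · intro C _ hfix
    set g := Quotient.out C with hg
    have hreal : IsConj g g⁻¹ := by
      rw [← ConjClasses.mk_eq_mk_iff_isConj, hg, hmk]
      exact hfix.symm
    rw [← mul_sub]
    exact MemLocalIdeal.mul_left (hFl g) (hN g (mem_of_real N hodd hreal))
  · intro C _ _
    set g := Quotient.out C with hg
    rw [classFun_of_isConj hF (hσout C), centralChar_of_isConj hψcl (hσout C),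
      centralChar_of_isConj hφcl (hσout C), ← hg]
    by_cases hpar : 2 ∣ orderOf g
    · rw [hF0 g hpar, hF0 g⁻¹ (by rwa [orderOf_inv])]
      simp only [zero_mul, sub_self, add_zero]
      exact memLocalIdeal_zero
    · have hoddg : Odd (orderOf g) := Nat.not_even_iff_odd.1 (fun h => hpar (even_iff_two_dvd.1 h))
      rw [hFinv g hoddg]
      have : F g * centralChar ψ g - F g * centralChar φ g
            + (F g * centralChar ψ g⁻¹ - F g * centralChar φ g⁻¹)
          = F g * (((2 : ℕ) : ℂ) * (centralChar ψ g - centralChar φ g)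
            + ((centralChar ψ g⁻¹ - centralChar ψ g) - (centralChar φ g⁻¹ - centralChar φ g))) := by
        push_cast; ring
      rw [this]
      apply MemLocalIdeal.mul_left (hFl g)
      exact MemLocalIdeal.add (MemLocalIdeal.mul_right (memLocalIdeal_p hM)
        (MemLocalRing.sub (centralChar_memLocalRing hψ g) (centralChar_memLocalRing hφ g)))
        (MemLocalIdeal.sub (hinvψ g hoddg) (hinvφ g hoddg))

end OddBlock
end Cfsg.Agent.Lib.Helper25
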