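import Cfsg.Agent.Lib.Helper25.PermReal
import Cfsg.Agent.S0174

set_option autoImplicit false
open Cfsg

namespace Cfsg.Agent.Lib.Helper25
namespace OddIndexReal

open Cfsg.Agent.Lib.Helper2 Cfsg.Agent.Lib.Helper6 Cfsg.Agent.Lib.Helper24 Cfsg.Agent.Lib.Helper23
open scoped ComplexConjugate

attribute [local instance] irrFintype

variable {G : Type*} [Group G] [Fintype G]

/-- complex conjugate of an irreducible character -/
noncomputable def cj (γ : IrrCharacter G) : IrrCharacter G := ⟨fun g => conj ((γ : G → ℂ) g), IsIrrCharacter.conj γ.2⟩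

theorem cj_cj (γ : IrrCharacter G) : cj (cj γ) = γ := by
  apply Subtype.ext
  funext g
  change conj (conj ((γ : G → ℂ) g)) = _
  simp

/-- an irreducible real character with `N` (of odd index) in its kernel is trivial -/
theorem eq_triv_of_real (N : Subgroup G) [N.Normal] (hodd : Odd N.index) (γ : IrrCharacter G)
    (hker : ∀ n ∈ N, (γ : G → ℂ) n = (γ : G → ℂ) 1) (hreal : cj γ = γ) : γ = trivIrr := by
  obtain ⟨ψ, hψ, hψ'⟩ := IsIrrCharacter.deflate N γ.2 hker
  have hψ1 := Cfsg.Agent.S0161.result (G := G ⧸ N)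
    (by rw [← Subgroup.index_eq_card]; exact hodd) ⟨ψ, hψ⟩ (by
      intro q
      obtain ⟨g, rfl⟩ := QuotientGroup.mk_surjective q
      change (ψ (QuotientGroup.mk g)).im = 0
      rw [hψ' g]
      exact Complex.conj_eq_iff_im.mp (congrFun (congrArg Subtype.val hreal) g))
  apply Subtype.ext
  funext g
  rw [← hψ' g]
  exact congrFun hψ1 _

/-- Parity of the inner product of the restrictions of two real irreducible characters to a normal
subgroup of odd index. -/
theorem parity (N : Subgroup G) [N.Normal] [Fintype N] (hodd : Odd N.index) (χ₁ χ₂ : IrrCharacter G)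
    (h₁ : cj χ₁ = χ₁) (h₂ : cj χ₂ = χ₂) :
    ∃ k : ℕ, classInner (fun n : N => (χ₁ : G → ℂ) n) (fun n : N => (χ₂ : G → ℂ) n)
      = ((if χ₁ = χ₂ then 1 else 0 : ℕ) : ℂ) + 2 * (k : ℂ) := by
  classical
  have hr₁ : ∀ g, conj ((χ₁ : G → ℂ) g) = (χ₁ : G → ℂ) g := fun g => congrFun (congrArg Subtype.val h₁) g
  have hr₂ : ∀ g, conj ((χ₂ : G → ℂ) g) = (χ₂ : G → ℂ) g := fun g => congrFun (congrArg Subtype.val h₂) g
  set f : G → ℂ := (χ₁ : G → ℂ) * (χ₂ : G → ℂ) with hf
  have hfc : IsCharacter G f := IsCharacter.mul (IsIrrCharacter.isCharacter χ₁.2) (IsIrrCharacter.isCharacter χ₂.2)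
  have hfr : ∀ g, conj (f g) = f g := by
    intro g
    simp only [hf, Pi.mul_apply, map_mul, hr₁, hr₂]
  choose m hm using fun γ : IrrCharacter G => IsCharacter.classInner_nat hfc (IsIrrCharacter.isCharacter γ.2)
  -- the coefficient function
  let c : IrrCharacter G → ℕ := fun γ => if ∀ n ∈ N, (γ : G → ℂ) n = (γ : G → ℂ) 1 then charDegree (γ : G → ℂ) else 0
  have hc : ∀ γ : IrrCharacter G, ∑ n : N, (γ : G → ℂ) n = (Nat.card N : ℂ) * (c γ : ℂ) := by
    intro γ
    by_cases hk : ∀ n ∈ N, (γ : G → ℂ) n = (γ : G → ℂ) 1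
    · simp only [c, if_pos hk]
      rw [Finset.sum_congr rfl (fun (n : N) _ => hk n n.2), Finset.sum_const, Finset.card_univ,
        nsmul_eq_mul, Nat.card_eq_fintype_card, charDegree_cast (IsIrrCharacter.isCharacter γ.2)]
    · simp only [c, if_neg hk]
      rcases Cfsg.Agent.Lib.Helper13.ker_or_sum_eq_zero N γ.2 with h | h
      · exact absurd h hk
      · rw [h]; simp
  have hN0 : (Nat.card N : ℂ) ≠ 0 := by exact_mod_cast (Nat.card_pos (α := N)).ne'
  have hstep1 : classInner (fun n : N => (χ₁ : G → ℂ) n) (fun n : N => (χ₂ : G → ℂ) n)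
      = ((∑ γ : IrrCharacter G, m γ * c γ : ℕ) : ℂ) := by
    have hexp := classFunction_eq_sum (IsCharacter.isClassFunction hfc)
    have h1 : ∀ n : N, (χ₁ : G → ℂ) n * conj ((χ₂ : G → ℂ) n)
        = ∑ γ : IrrCharacter G, (m γ : ℂ) * (γ : G → ℂ) n := by
      intro n
      rw [hr₂]
      have := congrFun hexp (n : G)
      rw [Finset.sum_apply] at this
      simp only [Pi.smul_apply, smul_eq_mul, hm] at this
      rw [← this]
      rfl
    rw [classInner, Finset.sum_congr rfl (fun n _ => h1 n), Finset.sum_comm]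
    simp_rw [← Finset.mul_sum, hc]
    push_cast
    rw [Finset.mul_sum]
    refine Finset.sum_congr rfl fun γ _ => ?_
    field_simp
  have hm1 : m trivIrr = if χ₁ = χ₂ then 1 else 0 := by
    have h1 := hm trivIrr
    have h2 : classInner f ((trivIrr : IrrCharacter G) : G → ℂ) = classInner (χ₁ : G → ℂ) (χ₂ : G → ℂ) := by
      unfold classInner
      congr 1
      refine Finset.sum_congr rfl fun g _ => ?_
      change (χ₁ : G → ℂ) g * (χ₂ : G → ℂ) g * conj (1 : ℂ) = _
      rw [hr₂]; simp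
    rw [h2, classInner_irr χ₁.2 χ₂.2] at h1
    by_cases h : χ₁ = χ₂
    · rw [if_pos h]
      rw [if_pos (congrArg Subtype.val h)] at h1
      exact_mod_cast h1.symm
    · rw [if_neg h]
      rw [if_neg (fun h' => h (Subtype.ext h'))] at h1
      exact_mod_cast h1.symm
  have hc1 : c trivIrr = 1 := by
    simp only [c]
    have h0 : ∀ n ∈ N, ((trivIrr : IrrCharacter G) : G → ℂ) n = ((trivIrr : IrrCharacter G) : G → ℂ) 1 :=
      fun _ _ => rfl
    rw [if_pos h0, charDegree_trivIrr]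
  have hmcj : ∀ γ, m (cj γ) = m γ := by
    intro γ
    have h1 : classInner f ((cj γ : IrrCharacter G) : G → ℂ) = conj (classInner f (γ : G → ℂ)) := by
      unfold classInner
      rw [map_mul, map_inv₀, Complex.conj_natCast, map_sum]
      congr 1
      refine Finset.sum_congr rfl fun g _ => ?_
      rw [map_mul, hfr]
      rfl
    rw [hm, hm, Complex.conj_natCast] at h1
    exact_mod_cast h1
  have hccj : ∀ γ, c (cj γ) = c γ := by
    intro γ
    have hiff : (∀ n ∈ N, ((cj γ : IrrCharacter G) : G → ℂ) n = ((cj γ : IrrCharacter G) : G → ℂ) 1)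
        ↔ ∀ n ∈ N, (γ : G → ℂ) n = (γ : G → ℂ) 1 := by
      constructor
      · intro h n hn
        have := h n hn
        exact (starRingEnd ℂ).injective this
      · intro h n hn
        exact congrArg conj (h n hn)
    have hdeg : charDegree ((cj γ : IrrCharacter G) : G → ℂ) = charDegree (γ : G → ℂ) := by
      have h1 := charDegree_cast (IsIrrCharacter.isCharacter (cj γ).2)
      have h2 := charDegree_cast (IsIrrCharacter.isCharacter γ.2)
      have h3 : ((cj γ : IrrCharacter G) : G → ℂ) 1 = conj ((γ : G → ℂ) 1) := rfl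
      rw [h3, ← h2, Complex.conj_natCast] at h1
      exact_mod_cast h1
    simp only [c]
    by_cases hk : ∀ n ∈ N, (γ : G → ℂ) n = (γ : G → ℂ) 1
    · rw [if_pos hk, if_pos (hiff.mpr hk), hdeg]
    · rw [if_neg hk, if_neg (fun h => hk (hiff.mp h))]
  have heven : ((∑ γ ∈ Finset.univ.erase (trivIrr : IrrCharacter G), m γ * c γ : ℕ) : ZMod 2) = 0 := by
    push_cast
    apply Finset.sum_involution (fun γ _ => cj γ)
    · intro γ _
      rw [hmcj, hccj]
      have : (2 : ZMod 2) = 0 := rfl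
      linear_combination ((m γ : ZMod 2) * (c γ : ZMod 2)) * this
    · intro γ hγ hne hfix
      have hne1 := (Finset.mem_erase.mp hγ).1
      apply hne1
      apply eq_triv_of_real N hodd γ _ hfix
      by_contra hk
      apply hne
      simp only [c, if_neg hk]
      simp
    · intro γ _
      exact cj_cj γ
    · intro γ hγ
      rw [Finset.mem_erase]
      refine ⟨?_, Finset.mem_univ _⟩
      intro h
      apply (Finset.mem_erase.mp hγ).1
      rw [← cj_cj γ, h]
      apply Subtype.ext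
      funext g
      change conj (1 : ℂ) = 1
      simp
  rw [ZMod.natCast_eq_zero_iff] at heven
  obtain ⟨k, hk⟩ := heven
  refine ⟨k, ?_⟩
  rw [hstep1, ← Finset.add_sum_erase _ _ (Finset.mem_univ (trivIrr : IrrCharacter G)), hm1, hc1, hk]
  push_cast
  ring

/-- At most one real irreducible character of `G` lies over a given irreducible character of a normal
subgroup of odd index. -/
theorem unique_real (N : Subgroup G) [hN : N.Normal] [Fintype N] (hodd : Odd N.index) (χ₁ χ₂ : IrrCharacter G)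
    (h₁ : cj χ₁ = χ₁) (h₂ : cj χ₂ = χ₂) {φ : N → ℂ} (hφ : IsIrrCharacter N φ)
    (hc₁ : classInner (fun n : N => (χ₁ : G → ℂ) n) φ ≠ 0)
    (hc₂ : classInner (fun n : N => (χ₂ : G → ℂ) n) φ ≠ 0) : χ₁ = χ₂ := by
  classical
  by_contra hne
  have e₁ := Cfsg.Agent.S0174.result N hN χ₁ χ₁.2 φ hφ hc₁
  have e₂ := Cfsg.Agent.S0174.result N hN χ₂ χ₂.2 φ hφ hc₂
  set S : N → ℂ := ∑ᶠ ψ ∈ {ψ : N → ℂ | ∃ g : G, ψ = fun n : N => φ ⟨g * n * g⁻¹, hN.conj_mem n n.2 g⟩}, ψ with hS
  set a₁ := classInner (fun n : N => (χ₁ : G → ℂ) n) φ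
  set a₂ := classInner (fun n : N => (χ₂ : G → ℂ) n) φ
  obtain ⟨k₁, hk₁⟩ := parity N hodd χ₁ χ₁ h₁ h₁
  obtain ⟨k₂, hk₂⟩ := parity N hodd χ₂ χ₂ h₂ h₂
  obtain ⟨k₃, hk₃⟩ := parity N hodd χ₁ χ₂ h₁ h₂
  obtain ⟨k₄, hk₄⟩ := parity N hodd χ₂ χ₁ h₂ h₁
  rw [if_pos rfl] at hk₁ hk₂
  rw [if_neg hne] at hk₃
  rw [if_neg (fun h => hne h.symm)] at hk₄
  rw [e₁, classInner_smul_left, classInner_smul_right] at hk₁
  rw [e₂, classInner_smul_left, classInner_smul_right] at hk₂
  rw [e₁, e₂, classInner_smul_left, classInner_smul_right] at hk₃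
  rw [e₁, e₂, classInner_smul_left, classInner_smul_right] at hk₄
  have hprod : (((1 + 2 * k₁) * (1 + 2 * k₂) : ℕ) : ℂ) = (((2 * k₃) * (2 * k₄) : ℕ) : ℂ) := by
    push_cast
    push_cast at hk₁ hk₂ hk₃ hk₄
    rw [← hk₁, ← hk₂]
    have h3 : (2 : ℂ) * k₃ = a₁ * ((starRingEnd ℂ) a₂ * classInner S S) := by rw [hk₃]; ring
    have h4 : (2 : ℂ) * k₄ = a₂ * ((starRingEnd ℂ) a₁ * classInner S S) := by rw [hk₄]; ring
    rw [h3, h4]
    ring
  have hprod' : (1 + 2 * k₁) * (1 + 2 * k₂) = (2 * k₃) * (2 * k₄) := by exact_mod_cast hprod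
  have ho : Odd ((1 + 2 * k₁) * (1 + 2 * k₂)) :=
    Odd.mul ⟨k₁, by ring⟩ ⟨k₂, by ring⟩
  rw [hprod'] at ho
  have he : Even ((2 * k₃) * (2 * k₄)) := Even.mul_right ⟨k₃, by ring⟩ _
  exact (Nat.not_even_iff_odd.mpr ho) he

/-- square roots of elements of a normal subgroup of odd index lie in the subgroup -/
theorem mem_of_sq_mem (N : Subgroup G) [hN : N.Normal] (hodd : Odd N.index) {x : G} (hx : x * x ∈ N) : x ∈ N := by
  rw [← QuotientGroup.eq_one_iff] at hx ⊢
  rw [QuotientGroup.mk_mul, ← sq] at hx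
  have h1 : orderOf (x : G ⧸ N) ∣ 2 := orderOf_dvd_of_pow_eq_one hx
  have h2 : orderOf (x : G ⧸ N) ∣ N.index := by
    rw [Subgroup.index_eq_card]; exact orderOf_dvd_natCard _
  have h3 : orderOf (x : G ⧸ N) ∣ Nat.gcd 2 N.index := Nat.dvd_gcd h1 h2
  have h4 : Nat.gcd 2 N.index = 1 := by
    rw [← Nat.coprime_iff_gcd_eq_one, Nat.coprime_two_left]
    exact hodd
  rw [h4] at h3
  exact orderOf_eq_one_iff.mp (Nat.dvd_one.mp h3)

/-- `Σ_χ ν(χ) [χ_N, φ] = ν(φ)` for a normal subgroup of odd index -/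
theorem sum_fsInd (N : Subgroup G) [hN : N.Normal] [Fintype N] (hodd : Odd N.index) {φ : N → ℂ}
    (hφ : IsIrrCharacter N φ) :
    ∑ χ : IrrCharacter G, fsInd (χ : G → ℂ) * classInner (fun n : N => (χ : G → ℂ) n) φ = fsInd φ := by
  classical
  rw [← classInner_sqrtCount hφ]
  have h1 : (sqrtCount (G := N)) = fun n : N => sqrtCount (n : G) := by
    funext n
    rw [sqrtCount_eq_card, sqrtCount_eq_card]
    congr 1
    apply Nat.card_congr
    exact
      { toFun := fun y => ⟨(y.1 : G), congrArg Subtype.val y.2⟩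
        invFun := fun x => ⟨⟨x.1, mem_of_sq_mem N hodd (by rw [x.2]; exact n.2)⟩, Subtype.ext x.2⟩
        left_inv := fun y => rfl
        right_inv := fun x => rfl }
  rw [h1]
  have h2 : (fun n : N => sqrtCount (n : G))
      = ∑ χ : IrrCharacter G, fsInd (χ : G → ℂ) • (fun n : N => (χ : G → ℂ) n) := by
    funext n
    rw [sqrtCount_eq_sum, Finset.sum_apply]
    rfl
  rw [h2, classInner_sum_left]
  refine Finset.sum_congr rfl fun χ _ => ?_
  rw [classInner_smul_left]

end OddIndexReal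
end Cfsg.Agent.Lib.Helper25
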