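import Cfsg.Agent.Lib.Helper23.Brauer
import Cfsg.Agent.Lib.Lead.GenChar

set_option autoImplicit false

namespace Cfsg.Agent.Lib.Helper25
namespace Twist

open Cfsg Cfsg.Agent.Lib.Helper2 Cfsg.Agent.Lib.Helper6 Cfsg.Agent.Lib.Helper24
open Cfsg.Agent.Lib.Helper23.IndTools Cfsg.Agent.Lib.Helper23.Brauer Cfsg.Agent.Lib.Lead
open scoped ComplexConjugate

attribute [local instance] irrFintype

universe u

variable {G : Type u} [Group G]

/-- the twist `g ↦ f (g ^ k)`; for `k` prime to `|G|` this is the Galois conjugate. -/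
def tw (k : ℕ) (f : G → ℂ) : G → ℂ := fun g => f (g ^ k)

theorem tw_apply (k : ℕ) (f : G → ℂ) (g : G) : tw k f g = f (g ^ k) := rfl

theorem pow_mem_iff [Finite G] (E : Subgroup G) {k : ℕ} (hk : k.Coprime (Nat.card G)) (y : G) :
    y ^ k ∈ E ↔ y ∈ E := by
  constructor
  · intro h
    obtain ⟨m, hm⟩ := exists_pow_eq_self_of_coprime
      (hk.coprime_dvd_right (orderOf_dvd_natCard y))
    rw [← hm]
    exact E.pow_mem h m
  · intro h; exact E.pow_mem h k

theorem tw_indFun [Fintype G] (E : Subgroup G) (lam : E →* ℂˣ) {k : ℕ}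
    (hk : k.Coprime (Nat.card G)) :
    tw k (indFun E (fun e => (lam e : ℂ))) = indFun E (fun e => ((lam ^ k) e : ℂ)) := by
  funext g
  unfold tw indFun
  congr 1
  apply Finset.sum_congr rfl
  intro x _
  have e1 : x⁻¹ * g ^ k * x = (x⁻¹ * g * x) ^ k := by
    have := conj_pow (a := x⁻¹) (b := g) (i := k)
    rw [inv_inv] at this
    exact this.symm
  rw [e1]
  by_cases hy : x⁻¹ * g * x ∈ E
  · rw [extendByZero_mem E _ hy, extendByZero_mem E _ (E.pow_mem hy k)]
    have : (⟨(x⁻¹ * g * x) ^ k, E.pow_mem hy k⟩ : E) = (⟨x⁻¹ * g * x, hy⟩ : E) ^ k := rfl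
    rw [this, map_pow]
    simp
  · rw [extendByZero_not_mem E _ hy,
      extendByZero_not_mem E _ (fun h => hy ((pow_mem_iff E hk _).1 h))]

theorem genChar_tw [Fintype G] {k : ℕ} (hk : k.Coprime (Nat.card G)) {f : G → ℂ}
    (hf : f ∈ elSpan G) : IsGeneralizedCharacter G (tw k f) := by
  unfold elSpan at hf
  induction hf using Submodule.span_induction with
  | mem f hf =>
    obtain ⟨E, lam, -, rfl⟩ := hf
    rw [tw_indFun E lam hk]
    exact genChar_indFun E (genChar_of_char (IsIrrCharacter.isCharacter (isIrrCharacter_of_hom _)))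
  | zero => exact genChar_zero
  | add a b _ _ ha hb => exact genChar_add ha hb
  | smul n a _ ha =>
    have : tw k (n • a) = (n : ℂ) • tw k a := by
      funext g
      simp [tw_apply]
    rw [this]
    exact genChar_zsmul n ha

theorem classInner_tw [Fintype G] {k : ℕ} (hk : k.Coprime (Nat.card G)) (a b : G → ℂ) :
    classInner (tw k a) (tw k b) = classInner a b := by
  unfold classInner tw
  congr 1
  exact Equiv.sum_comp (powCoprime hk.symm) (fun g => a g * conj (b g))

theorem isIrr_tw [Finite G] {k : ℕ} (hk : k.Coprime (Nat.card G)) {χ : G → ℂ}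
    (hχ : IsIrrCharacter G χ) : IsIrrCharacter G (tw k χ) := by
  classical
  haveI := Fintype.ofFinite G
  apply isIrrCharacter_of_genChar (genChar_tw hk (brauer (IsIrrCharacter.isCharacter hχ)))
  · rw [classInner_tw hk, classInner_irr hχ hχ, if_pos rfl]
  · rw [tw_apply, one_pow, ← charDegree_cast (IsIrrCharacter.isCharacter hχ)]
    simpa using charDegree_pos hχ

theorem isChar_tw [Finite G] {k : ℕ} (hk : k.Coprime (Nat.card G)) {χ : G → ℂ}
    (hχ : IsCharacter G χ) : IsCharacter G (tw k χ) := by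
  classical
  haveI := Fintype.ofFinite G
  obtain ⟨n, hn⟩ := IsCharacter.exists_eq_sum hχ
  have : tw k χ = ∑ ψ : IrrCharacter G, (n ψ : ℂ) • tw k (ψ : G → ℂ) := by
    funext g
    rw [tw_apply, hn]
    simp [tw_apply]
  rw [this]
  exact IsCharacter.sum _ (fun ψ _ => IsCharacter.nsmul _ (IsIrrCharacter.isCharacter (isIrr_tw hk ψ.2)))

end Twist
end Cfsg.Agent.Lib.Helper25
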