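import Mathlib
import Cfsg.Agent.S4426
import Cfsg.Agent.S0952
import Cfsg.Agent.S4736
import Cfsg.Agent.Lib.Helper25.Twist
import Cfsg.Agent.Lib.Helper25.GaloisVal

set_option autoImplicit false

namespace Cfsg.Agent.Lib.Helper25
namespace PrincipalReg

open Cfsg Cfsg.Agent.Lib.Helper2 Cfsg.Agent.Lib.Helper6 Cfsg.Agent.Lib.Helper24
open Cfsg.Agent.Lib.Helper25.Twist
open scoped ComplexConjugate

attribute [local instance] irrFintype
open scoped Classical

variable {G : Type*} [Group G] [Fintype G] {p : ℕ} [Fact p.Prime] {M : Ideal AlgInt}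

/-- A character lies in the principal block iff its sum over the `p`-regular elements is nonzero. -/
theorem mem_principalBlock_iff_sum (hM : IsPModular p M) (ξ : IrrCharacter G) :
    ξ ∈ principalBlock M G ↔
      ∑ x : G, (if p ∣ orderOf x then (0 : ℂ) else (ξ : G → ℂ) x) ≠ 0 := by
  classical
  haveI := IsPModular.isPrime hM
  let one : IrrCharacter G := ⟨fun _ => 1, isIrrCharacter_one⟩
  constructor
  · intro hξ h0
    have hone : one ∈ principalBlock M G := SameBlock.refl (M := M) (fun _ : G => (1 : ℂ))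
    have hh : blockHeight p (principalBlock M G) (one : G → ℂ) = 0 := by
      rw [Cfsg.Agent.S4736.blockHeight_principal_eq_zero_iff]
      have h1 := charDegree_cast (IsIrrCharacter.isCharacter (isIrrCharacter_one (G := G)))
      have h2 : charDegree (fun _ : G => (1 : ℂ)) = 1 := by exact_mod_cast h1
      show ¬ p ∣ charDegree (fun _ : G => (1 : ℂ))
      rw [h2]
      exact (Fact.out : p.Prime).one_lt.ne' ∘ Nat.dvd_one.mp
    obtain ⟨n, hn, hn0, -⟩ := ((Cfsg.Agent.S4426.result p M hM (principalBlock M G)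
      isPBlock_principalBlock one hone).2.mp hh) ξ hξ
    apply hn0
    have h1 : classInner (fun x : G => if p ∣ orderOf x then (0 : ℂ) else
        ((p ^ (Nat.card G).factorization p : ℕ) : ℂ) * (one : G → ℂ) x) (ξ : G → ℂ) =
        (Nat.card G : ℂ)⁻¹ * (((p ^ (Nat.card G).factorization p : ℕ) : ℂ) *
          conj (∑ x : G, (if p ∣ orderOf x then (0 : ℂ) else (ξ : G → ℂ) x))) := by
      unfold classInner
      congr 1
      rw [map_sum, Finset.mul_sum]
      refine Finset.sum_congr rfl fun x _ => ?_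
      by_cases hx : p ∣ orderOf x
      · simp [hx]
      · simp only [if_neg hx]
        show _ * (1 : ℂ) * _ = _
        rw [mul_one]
    rw [h1, h0, map_zero, mul_zero, mul_zero] at hn
    exact_mod_cast hn.symm
  · intro h
    by_contra hξ
    apply h
    have h1 : ¬ SameBlock M (ξ : G → ℂ) (one : G → ℂ) := fun hs => hξ (SameBlock.symm hs)
    have h2 := Cfsg.Agent.S0952.result p M hM ξ one h1
    rw [finsum_mem_def, finsum_eq_sum_of_fintype] at h2
    refine Eq.trans ?_ h2
    refine Finset.sum_congr rfl fun x _ => ?_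
    by_cases hx : p ∣ orderOf x
    · rw [if_pos hx, Set.indicator_of_notMem]
      simpa using hx
    · rw [if_neg hx, Set.indicator_of_mem (by simpa using hx)]
      show _ = _ * conj (1 : ℂ)
      rw [map_one, mul_one]

/-- The twisted irreducible character. -/
noncomputable def twIrr {k : ℕ} (hk : k.Coprime (Nat.card G)) (χ : IrrCharacter G) :
    IrrCharacter G := ⟨tw k χ, isIrr_tw hk χ.2⟩

theorem twIrr_injective {k : ℕ} (hk : k.Coprime (Nat.card G)) :
    Function.Injective (twIrr (G := G) hk) := by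
  intro χ ψ h
  apply Subtype.ext
  funext g
  obtain ⟨y, rfl⟩ := (powCoprime hk.symm).surjective g
  exact congrFun (congrArg Subtype.val h) y

theorem twIrr_bijective {k : ℕ} (hk : k.Coprime (Nat.card G)) :
    Function.Bijective (twIrr (G := G) hk) :=
  Finite.injective_iff_bijective.mp (twIrr_injective hk)

/-- The principal block is stable under Galois twists. -/
theorem twIrr_mem_principalBlock_iff (hM : IsPModular p M) {k : ℕ}
    (hk : k.Coprime (Nat.card G)) (χ : IrrCharacter G) :
    twIrr hk χ ∈ principalBlock M G ↔ χ ∈ principalBlock M G := by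
  rw [mem_principalBlock_iff_sum hM, mem_principalBlock_iff_sum hM]
  have : ∑ x : G, (if p ∣ orderOf x then (0 : ℂ) else (twIrr hk χ : G → ℂ) x) =
      ∑ x : G, (if p ∣ orderOf x then (0 : ℂ) else (χ : G → ℂ) x) := by
    rw [← Equiv.sum_comp (powCoprime hk.symm)
      (fun x => if p ∣ orderOf x then (0 : ℂ) else (χ : G → ℂ) x)]
    refine Finset.sum_congr rfl fun x _ => ?_
    have ho : orderOf (x ^ k) = orderOf x := by
      rw [orderOf_pow, (Nat.Coprime.coprime_dvd_left (orderOf_dvd_natCard x) hk.symm :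
        Nat.gcd (orderOf x) k = 1), Nat.div_one]
    simp only [powCoprime_apply, ho]
    rfl
  rw [this]

/-- `Σ_{χ ∈ B₀} |χ(x)|²` is a natural number. -/
theorem exists_nat_sum_principal (hM : IsPModular p M) (x : G) :
    ∃ n : ℕ, 0 < n ∧ ∑ χ : IrrCharacter G, (if χ ∈ principalBlock M G then
      (χ : G → ℂ) x * conj ((χ : G → ℂ) x) else 0) = (n : ℂ) := by
  classical
  haveI := IsPModular.isPrime hM
  let Θ : G → ℂ := ∑ χ : IrrCharacter G, (if χ ∈ principalBlock M G then
      (χ : G → ℂ) * (fun g => conj ((χ : G → ℂ) g)) else 0)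
  have hΘapp : ∀ g, Θ g = ∑ χ : IrrCharacter G, (if χ ∈ principalBlock M G then
      (χ : G → ℂ) g * conj ((χ : G → ℂ) g) else 0) := by
    intro g
    simp only [Θ, Finset.sum_apply]
    refine Finset.sum_congr rfl fun χ _ => ?_
    split_ifs <;> simp
  have hΘ : IsCharacter G Θ := by
    apply IsCharacter.sum
    intro χ _
    split_ifs
    · exact IsCharacter.mul (IsIrrCharacter.isCharacter χ.2)
        (IsCharacter.conj (IsIrrCharacter.isCharacter χ.2))
    · exact isCharacter_zero
  obtain ⟨q, hq⟩ := GaloisVal.rat_of_apply_pow hΘ x (by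
    intro m hm
    rw [hΘapp, hΘapp]
    conv_rhs => rw [← Equiv.sum_comp (Equiv.ofBijective _ (twIrr_bijective (G := G) hm))]
    refine Finset.sum_congr rfl fun χ _ => ?_
    simp only [Equiv.ofBijective_apply, twIrr_mem_principalBlock_iff hM hm]
    rfl)
  have hint : IsIntegral ℤ (Θ x) := char_isIntegral hΘ x
  rw [hq] at hint
  have hint' : IsIntegral ℤ q := by
    have h1 : ((q : ℚ) : ℂ) = algebraMap ℚ ℂ q := rfl
    rw [h1, isIntegral_algebraMap_iff (algebraMap ℚ ℂ).injective] at hint
    exact hint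
  rw [IsIntegrallyClosed.isIntegral_iff] at hint'
  obtain ⟨z, hz⟩ := hint'
  have hz' : Θ x = (z : ℂ) := by
    rw [hq, ← hz]
    simp
  -- positivity
  have hre : (1 : ℝ) ≤ (Θ x).re := by
    rw [hΘapp, Complex.re_sum]
    let one : IrrCharacter G := ⟨fun _ => 1, isIrrCharacter_one⟩
    have hone : one ∈ principalBlock M G := SameBlock.refl (M := M) (fun _ : G => (1 : ℂ))
    have hnn : ∀ χ : IrrCharacter G, 0 ≤ (if χ ∈ principalBlock M G then
        (χ : G → ℂ) x * conj ((χ : G → ℂ) x) else 0).re := by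
      intro χ
      split_ifs
      · rw [Complex.mul_conj]
        simpa using Complex.normSq_nonneg _
      · simp
    have h1 := Finset.single_le_sum (f := fun χ : IrrCharacter G =>
      (if χ ∈ principalBlock M G then (χ : G → ℂ) x * conj ((χ : G → ℂ) x) else 0).re)
      (fun χ _ => hnn χ) (Finset.mem_univ one)
    refine le_trans ?_ h1
    simp only [if_pos hone]
    show (1 : ℝ) ≤ ((1 : ℂ) * conj (1 : ℂ)).re
    simp
  rw [hz'] at hre
  have hz1 : (1 : ℤ) ≤ z := by
    have : (1 : ℝ) ≤ (z : ℝ) := by simpa using hre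
    exact_mod_cast this
  refine ⟨z.toNat, by omega, ?_⟩
  rw [← hΘapp, hz']
  have : ((z.toNat : ℤ) : ℂ) = (z : ℂ) := by rw [Int.toNat_of_nonneg (by omega)]
  exact_mod_cast this.symm

end PrincipalReg
end Cfsg.Agent.Lib.Helper25
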