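import Mathlib
import Cfsg.Agent.Lib.Helper25.PrincipalReg
import Cfsg.Agent.Lib.Helper2.Induction

set_option autoImplicit false

namespace Cfsg.Agent.Lib.Helper25
namespace PrincipalReg

open Cfsg Cfsg.Agent.Lib.Helper2 Cfsg.Agent.Lib.Helper6 Cfsg.Agent.Lib.Helper24
open scoped ComplexConjugate

attribute [local instance] irrFintype

variable {G : Type*} [Group G] [Fintype G] {p : ℕ} [Fact p.Prime] {M : Ideal AlgInt}

/-- `p^a` times the indicator function of the `p`-regular elements. -/
noncomputable def regInd (p : ℕ) (G : Type*) [Group G] : G → ℂ :=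
  fun x => if p ∣ orderOf x then (0 : ℂ) else ((p ^ (Nat.card G).factorization p : ℕ) : ℂ)

theorem isClassFunction_regInd : IsClassFunction G (regInd p G) := by
  intro g h
  have : orderOf (h * g * h⁻¹) = orderOf g :=
    orderOf_injective (MulAut.conj h).toMonoidHom (MulAut.conj h).injective g
  simp only [regInd, this]

theorem classInner_regInd_of_mem (hM : IsPModular p M) (ξ : IrrCharacter G)
    (hξ : ξ ∈ principalBlock M G) :
    ∃ n : ℤ, classInner (regInd p G) (ξ : G → ℂ) = (n : ℂ) ∧ n ≠ 0 ∧
      padicValInt p n = (charDegree (ξ : G → ℂ)).factorization p := by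
  classical
  haveI := IsPModular.isPrime hM
  let one : IrrCharacter G := ⟨fun _ => 1, isIrrCharacter_one⟩
  have hone : one ∈ principalBlock M G := SameBlock.refl (M := M) (fun _ : G => (1 : ℂ))
  have hh : blockHeight p (principalBlock M G) (one : G → ℂ) = 0 := by
    rw [Cfsg.Agent.S4736.blockHeight_principal_eq_zero_iff]
    have h1 := charDegree_cast (IsIrrCharacter.isCharacter (isIrrCharacter_one (G := G)))
    have h2 : charDegree (fun _ : G => (1 : ℂ)) = 1 := by exact_mod_cast h1
    show ¬ p ∣ charDegree (fun _ : G => (1 : ℂ))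
    rw [h2]
    exact (Fact.out : p.Prime).one_lt.ne' ∘ Nat.dvd_one.mp
  have := ((Cfsg.Agent.S4426.result p M hM (principalBlock M G)
    isPBlock_principalBlock one hone).2.mp hh) ξ hξ
  have he : (fun x : G => if p ∣ orderOf x then (0 : ℂ) else
      ((p ^ (Nat.card G).factorization p : ℕ) : ℂ) * (one : G → ℂ) x) = regInd p G := by
    funext x
    show (if p ∣ orderOf x then (0 : ℂ) else
      ((p ^ (Nat.card G).factorization p : ℕ) : ℂ) * (1 : ℂ)) = _
    rw [mul_one]
    rfl
  rw [he] at this
  exact this

theorem classInner_regInd_of_not_mem (hM : IsPModular p M) (ξ : IrrCharacter G)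
    (hξ : ξ ∉ principalBlock M G) : classInner (regInd p G) (ξ : G → ℂ) = 0 := by
  classical
  have h0 : ∑ x : G, (if p ∣ orderOf x then (0 : ℂ) else (ξ : G → ℂ) x) = 0 := by
    by_contra h
    exact hξ ((mem_principalBlock_iff_sum hM ξ).mpr h)
  have h1 : classInner (regInd p G) (ξ : G → ℂ) = (Nat.card G : ℂ)⁻¹ *
      (((p ^ (Nat.card G).factorization p : ℕ) : ℂ) *
        conj (∑ x : G, (if p ∣ orderOf x then (0 : ℂ) else (ξ : G → ℂ) x))) := by
    unfold classInner
    congr 1
    rw [map_sum, Finset.mul_sum]
    refine Finset.sum_congr rfl fun x _ => ?_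
    by_cases hx : p ∣ orderOf x
    · simp [regInd, hx]
    · simp [regInd, hx]
  rw [h1, h0, map_zero, mul_zero, mul_zero]

/-- If `H` contains a Sylow `p`-subgroup of `G`, every `p'`-degree character in the principal block
of `H` lies under a `p'`-degree character of the principal block of `G`. -/
theorem exists_pprime_over (hM : IsPModular p M) (H : Subgroup G) [Fintype H]
    (hH : (Nat.card H).factorization p = (Nat.card G).factorization p)
    (η : IrrCharacter H) (hη : η ∈ principalBlock M H) (hdeg : ¬ p ∣ charDegree (η : H → ℂ)) :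
    ∃ χ : IrrCharacter G, χ ∈ principalBlock M G ∧ ¬ p ∣ charDegree (χ : G → ℂ) ∧
      classInner (indFun H (η : H → ℂ)) (χ : G → ℂ) ≠ 0 := by
  classical
  have hp : p.Prime := Fact.out
  obtain ⟨n, hn, hn0, hnv⟩ := classInner_regInd_of_mem hM η hη
  have hnp : ¬ (p : ℤ) ∣ n := by
    rw [Nat.factorization_eq_zero_of_not_dvd hdeg] at hnv
    rcases padicValInt.eq_zero_iff.mp hnv with h | h | h
    · exact absurd h hp.ne_one
    · exact absurd h hn0
    · exact h
  have hres : (fun h : H => regInd p G h) = regInd p H := by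
    funext h
    simp only [regInd, Subgroup.orderOf_coe, hH]
  have hfr := frobenius_reciprocity H (η : H → ℂ) (regInd p G) isClassFunction_regInd
  rw [hres, ← classInner_conj_symm (regInd p H), hn] at hfr
  obtain ⟨a, ha⟩ := IsCharacter.exists_eq_sum
    (IsCharacter.indFun H (IsIrrCharacter.isCharacter η.2))
  have hain : ∀ χ : IrrCharacter G, classInner (indFun H (η : H → ℂ)) (χ : G → ℂ) = a χ := by
    intro χ
    conv_lhs => rw [ha]
    rw [classInner_sum_irr_left]
  by_contra hcon
  push_neg at hcon
  apply hnp
  -- each term is divisible by `p`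
  have hterm : ∀ χ : IrrCharacter G, ∃ m : ℤ, (a χ : ℂ) * classInner (χ : G → ℂ) (regInd p G) =
      ((p : ℤ) * m : ℤ) := by
    intro χ
    by_cases hχ : χ ∈ principalBlock M G
    · obtain ⟨k, hk, hk0, hkv⟩ := classInner_regInd_of_mem hM χ hχ
      rw [← classInner_conj_symm, hk]
      by_cases hd : p ∣ charDegree (χ : G → ℂ)
      · have hkp : (p : ℤ) ∣ k := by
          by_contra hnd
          have h0 := padicValInt.eq_zero_iff.mpr (Or.inr (Or.inr hnd))
          rw [h0] at hkv
          have hpos : 0 < (charDegree (χ : G → ℂ)).factorization p :=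
            hp.factorization_pos_of_dvd (charDegree_pos χ.2).ne' hd
          omega
        obtain ⟨m, rfl⟩ := hkp
        refine ⟨a χ * m, ?_⟩
        simp only [map_intCast]
        push_cast
        ring
      · have := hcon χ hχ hd
        rw [hain] at this
        refine ⟨0, ?_⟩
        rw [this]; simp
    · refine ⟨0, ?_⟩
      rw [← classInner_conj_symm, classInner_regInd_of_not_mem hM χ hχ]
      simp
  choose m hm using hterm
  have hsum : classInner (indFun H (η : H → ℂ)) (regInd p G) =
      ∑ χ : IrrCharacter G, (a χ : ℂ) * classInner (χ : G → ℂ) (regInd p G) := by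
    conv_lhs => rw [ha]
    rw [classInner_sum_left]
    refine Finset.sum_congr rfl fun χ _ => ?_
    rw [classInner_smul_left]
  rw [hsum, Finset.sum_congr rfl (fun χ _ => hm χ)] at hfr
  have hfin : ((∑ χ : IrrCharacter G, (p : ℤ) * m χ : ℤ) : ℂ) = (n : ℂ) := by
    rw [map_intCast] at hfr
    rw [← hfr]
    push_cast
    rfl
  have hfin' : ∑ χ : IrrCharacter G, (p : ℤ) * m χ = n := by exact_mod_cast hfin
  rw [← hfin', ← Finset.mul_sum]
  exact dvd_mul_right _ _

/-- Every character of the principal block of a subgroup lies under a character of the principal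
block of the group. -/
theorem exists_over (hM : IsPModular p M) (H : Subgroup G) [Fintype H]
    (η : IrrCharacter H) (hη : η ∈ principalBlock M H) :
    ∃ χ : IrrCharacter G, χ ∈ principalBlock M G ∧
      classInner (indFun H (η : H → ℂ)) (χ : G → ℂ) ≠ 0 := by
  classical
  have hp : p.Prime := Fact.out
  obtain ⟨n, hn, hn0, -⟩ := classInner_regInd_of_mem hM η hη
  have hle : (Nat.card H).factorization p ≤ (Nat.card G).factorization p :=
    (Nat.factorization_le_iff_dvd Nat.card_pos.ne' Nat.card_pos.ne').mpr
      (Subgroup.card_subgroup_dvd_card _) p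
  have hres : (fun h : H => regInd p G h) =
      ((p ^ ((Nat.card G).factorization p - (Nat.card H).factorization p) : ℕ) : ℂ) •
        regInd p H := by
    funext h
    simp only [regInd, Subgroup.orderOf_coe, Pi.smul_apply, smul_eq_mul]
    by_cases hd : p ∣ orderOf h
    · simp [hd]
    · simp only [if_neg hd]
      rw [← Nat.cast_mul, ← pow_add, Nat.sub_add_cancel hle]
  have hfr := frobenius_reciprocity H (η : H → ℂ) (regInd p G) isClassFunction_regInd
  rw [hres, classInner_smul_right, ← classInner_conj_symm (regInd p H), hn] at hfr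
  have hne : classInner (indFun H (η : H → ℂ)) (regInd p G) ≠ 0 := by
    rw [hfr]
    apply mul_ne_zero
    · simp [hp.ne_zero]
    · simpa using hn0
  obtain ⟨a, ha⟩ := IsCharacter.exists_eq_sum
    (IsCharacter.indFun H (IsIrrCharacter.isCharacter η.2))
  have hain : ∀ χ : IrrCharacter G, classInner (indFun H (η : H → ℂ)) (χ : G → ℂ) = a χ := by
    intro χ
    conv_lhs => rw [ha]
    rw [classInner_sum_irr_left]
  by_contra hcon
  push_neg at hcon
  apply hne
  conv_lhs => rw [ha]
  rw [classInner_sum_left]
  apply Finset.sum_eq_zero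
  intro χ _
  rw [classInner_smul_left]
  by_cases hχ : χ ∈ principalBlock M G
  · have := hcon χ hχ
    rw [hain] at this
    rw [this, zero_mul]
  · rw [← classInner_conj_symm, classInner_regInd_of_not_mem hM χ hχ]
    simp

end PrincipalReg
end Cfsg.Agent.Lib.Helper25
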