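import Cfsg.Agent.Lib.Helper23.FSCount
import Cfsg.Agent.Lib.Helper13.Gallagher
import Cfsg.Agent.Lib.Helper2.Clifford
import Cfsg.Agent.S0161

set_option autoImplicit false
open Cfsg

namespace Cfsg.Agent.Lib.Helper25
namespace PermReal

open Cfsg.Agent.Lib.Helper2 Cfsg.Agent.Lib.Helper6 Cfsg.Agent.Lib.Helper24 Cfsg.Agent.Lib.Helper23
open scoped ComplexConjugate

attribute [local instance] irrFintype

variable {G : Type*} [Group G] [Fintype G]

/-- sum of the square-root counts over a subgroup -/
theorem sum_sqrtCount (H : Subgroup G) [Fintype H] :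
    ∑ h : H, sqrtCount (h : G) = (Nat.card {x : G // x * x ∈ H} : ℂ) := by
  classical
  unfold sqrtCount
  rw [Finset.sum_comm, Nat.card_eq_fintype_card, Fintype.card_subtype, Finset.card_filter]
  push_cast
  refine Finset.sum_congr rfl fun x _ => ?_
  by_cases hx : x * x ∈ H
  · rw [if_pos hx, Finset.sum_eq_single (⟨x * x, hx⟩ : H)]
    · simp
    · intro b _ hb
      rw [if_neg]
      intro h
      exact hb (Subtype.ext h.symm)
    · intro h
      exact absurd (Finset.mem_univ _) h
  · rw [if_neg hx]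
    apply Finset.sum_eq_zero
    intro b _
    rw [if_neg]
    intro h
    exact hx (h ▸ b.2)

/-- `#{x : x² ∈ H} = |H| Σ_χ m_χ ν(χ)` -/
theorem card_sq_mem (H : Subgroup G) :
    (Nat.card {x : G // x * x ∈ H} : ℂ) = (Nat.card H : ℂ) *
      ∑ χ : IrrCharacter G, classInner (indFun H (fun _ => 1)) (χ : G → ℂ) * fsInd (χ : G → ℂ) := by
  classical
  haveI : Fintype H := Fintype.ofFinite H
  have h1 := classInner_eq_sum_irr (indFun_isClassFunction H (fun _ => 1))
    (sqrtCount_isClassFunction (G := G))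
  have h2 := frobenius_reciprocity H (fun _ => 1) sqrtCount (sqrtCount_isClassFunction (G := G))
  have h3 : ∀ χ : IrrCharacter G, classInner (indFun H (fun _ => 1)) (χ : G → ℂ) *
      conj (classInner (sqrtCount (G := G)) (χ : G → ℂ))
      = classInner (indFun H (fun _ => 1)) (χ : G → ℂ) * fsInd (χ : G → ℂ) := by
    intro χ
    rw [classInner_sqrtCount χ.2, conj_fsInd χ.2]
  rw [Finset.sum_congr rfl (fun χ _ => h3 χ)] at h1
  rw [← h1, h2, classInner]
  have h4 : ∀ h : H, (1 : ℂ) * conj (sqrtCount (h : G)) = sqrtCount (h : G) := by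
    intro h
    rw [one_mul, sqrtCount_eq_card, Complex.conj_natCast]
  rw [Finset.sum_congr rfl (fun h _ => h4 h), sum_sqrtCount, ← mul_assoc,
    mul_inv_cancel₀ (by exact_mod_cast (Nat.card_pos (α := H)).ne'), one_mul]

end PermReal
end Cfsg.Agent.Lib.Helper25
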