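import Mathlib
import Cfsg.Agent.Lib.Lead.GlaubE
import Cfsg.Agent.Lib.Helper13.Gallagher
import Cfsg.Agent.Lib.Helper13.Clifford4
import Cfsg.Agent.Lib.Helper13.CyclicExt2
import Cfsg.Agent.Lib.Helper24.Constituent
import Cfsg.Agent.Lib.Helper2.Inflation
import Cfsg.Agent.S0868

/-!
# Relative Glauberman correspondence over a normal Sylow `p`-subgroup: generalities
-/

set_option autoImplicit false

namespace Cfsg.Agent.Lib.Helper25.RelGlaub

open Cfsg Cfsg.Agent.Lib.Helper2 Cfsg.Agent.Lib.Helper6 Cfsg.Agent.Lib.Helper24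
open Cfsg.Agent.Lib.Helper13 Cfsg.Agent.Lib.Lead.Glaub
open scoped ComplexConjugate

attribute [local instance] irrFintype

section acts

variable {X R : Type*} [Group X] [Group R]

/-- restriction of an action to a stable subgroup -/
def resAct (φ : R →* MulAut X) (T : Subgroup X) (hT : ∀ s, ∀ t ∈ T, φ s t ∈ T) :
    R →* MulAut T where
  toFun s :=
    { toFun := fun t => ⟨φ s t, hT s t t.2⟩
      invFun := fun t => ⟨φ s⁻¹ t, hT s⁻¹ t t.2⟩
      left_inv := fun t => Subtype.ext (by simp [map_inv])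
      right_inv := fun t => Subtype.ext (by simp [map_inv])
      map_mul' := fun a b => Subtype.ext (by simp) }
  map_one' := by
    ext t
    simp
  map_mul' := fun a b => by
    ext t
    simp

theorem resAct_apply (φ : R →* MulAut X) (T : Subgroup X) (hT : ∀ s, ∀ t ∈ T, φ s t ∈ T)
    (s : R) (t : T) : ((resAct φ T hT s t : T) : X) = φ s t := rfl

theorem map_eq_of_stable (φ : R →* MulAut X) (N : Subgroup X) (hN : ∀ s, ∀ n ∈ N, φ s n ∈ N)
    (s : R) : N.map (φ s).toMonoidHom = N := by
  apply le_antisymm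
  · rintro _ ⟨n, hn, rfl⟩
    exact hN s n hn
  · intro n hn
    refine ⟨φ s⁻¹ n, hN s⁻¹ n hn, ?_⟩
    simp [map_inv]

/-- induced action on a quotient -/
noncomputable def quotAct (φ : R →* MulAut X) (N : Subgroup X) [N.Normal]
    (hN : ∀ s, ∀ n ∈ N, φ s n ∈ N) : R →* MulAut (X ⧸ N) where
  toFun s := QuotientGroup.congr N N (φ s) (map_eq_of_stable φ N hN s)
  map_one' := by
    apply MulEquiv.ext
    intro c
    obtain ⟨x, rfl⟩ := QuotientGroup.mk_surjective c
    simp
  map_mul' := fun a b => by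
    apply MulEquiv.ext
    intro c
    obtain ⟨x, rfl⟩ := QuotientGroup.mk_surjective c
    show (((φ (a * b)) x : X) : X ⧸ N) = (((φ a) ((φ b) x) : X) : X ⧸ N)
    simp

theorem quotAct_mk (φ : R →* MulAut X) (N : Subgroup X) [N.Normal]
    (hN : ∀ s, ∀ n ∈ N, φ s n ∈ N) (s : R) (x : X) :
    quotAct φ N hN s (x : X ⧸ N) = ((φ s x : X) : X ⧸ N) := rfl

theorem exists_fixed_act {p : ℕ} [Fact p.Prime] (hR : IsPGroup p R) (φ : R →* MulAut X)
    (A : Set X) (hA : ∀ s, ∀ a ∈ A, φ s a ∈ A) (hc : ¬ p ∣ Nat.card A) :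
    ∃ a ∈ A, ∀ s, φ s a = a := by
  letI : MulAction R A :=
    { smul := fun s a => ⟨φ s a, hA s a a.2⟩
      one_smul := fun a => Subtype.ext (by
        show φ 1 (a : X) = a
        simp)
      mul_smul := fun s t a => Subtype.ext (by
        show φ (s * t) (a : X) = φ s (φ t (a : X))
        simp) }
  obtain ⟨a, ha⟩ := hR.nonempty_fixed_point_of_prime_not_dvd_card A hc
  exact ⟨a, a.2, fun s => congrArg Subtype.val (ha s)⟩

end acts

section chars

variable {B A : Type*} [Group B] [Fintype B] [Group A] [Fintype A]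

theorem constituent_trans (v : A →* B) {f : B → ℂ} (hf : IsCharacter B f) (η : IrrCharacter B)
    (θ : IrrCharacter A) (h1 : classInner f η ≠ 0)
    (h2 : classInner (fun a => (η : B → ℂ) (v a)) θ ≠ 0) :
    classInner (fun a => f (v a)) θ ≠ 0 := by
  classical
  obtain ⟨n, hn⟩ := IsCharacter.exists_eq_sum hf
  have hnη : classInner f η = n η := by
    conv_lhs => rw [hn]
    exact classInner_sum_irr_left _ η
  choose k hk using fun η' : IrrCharacter B =>
    IsCharacter.classInner_nat (IsCharacter.comp_hom v (IsIrrCharacter.isCharacter η'.2))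
      (IsIrrCharacter.isCharacter θ.2)
  have e : (fun a => f (v a)) = ∑ η' : IrrCharacter B, (n η' : ℂ) • (fun a => (η' : B → ℂ) (v a)) := by
    funext a
    rw [hn]
    simp [Finset.sum_apply]
  have h3 : classInner (fun a => f (v a)) θ = ((∑ η' : IrrCharacter B, n η' * k η' : ℕ) : ℂ) := by
    rw [e, classInner_sum_left]
    push_cast
    refine Finset.sum_congr rfl fun η' _ => ?_
    rw [classInner_smul_left, hk]
  rw [h3]
  have hn0 : n η ≠ 0 := by
    intro h0
    apply h1
    rw [hnη, h0]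
    simp
  have hk0 : k η ≠ 0 := by
    intro h0
    apply h2
    rw [hk, h0]
    simp
  have h4 : 0 < ∑ η' : IrrCharacter B, n η' * k η' := by
    apply Finset.sum_pos'
    · intro i _
      exact Nat.zero_le _
    · exact ⟨η, Finset.mem_univ _, Nat.mul_pos (Nat.pos_of_ne_zero hn0) (Nat.pos_of_ne_zero hk0)⟩
  exact_mod_cast h4.ne'

end chars

end Cfsg.Agent.Lib.Helper25.RelGlaub
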