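import Mathlib
import Cfsg.Agent.Lib.Helper25.RelGlaub1
import Cfsg.Agent.Lib.Helper13.DetChar
import Cfsg.Agent.Lib.Lead.GlaubL
import Cfsg.Agent.S0867

/-!
# Relative Glauberman correspondence: actions, inertia groups, canonical extensions
-/

set_option autoImplicit false

namespace Cfsg.Agent.Lib.Helper25.RelGlaub

open Cfsg Cfsg.Agent.Lib.Helper2 Cfsg.Agent.Lib.Helper6 Cfsg.Agent.Lib.Helper24
open Cfsg.Agent.Lib.Helper13 Cfsg.Agent.Lib.Lead.Glaub
open scoped ComplexConjugate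

attribute [local instance] irrFintype

section one

variable {X R : Type*} [Group X] [Group R] (φ : R →* MulAut X) (N : Subgroup X) [hNn : N.Normal]
  (hN : ∀ s, ∀ n ∈ N, φ s n ∈ N)

theorem conjFun_act {θ : N → ℂ} (hθ : Inv (resAct φ N hN) θ) (r : R) (x : X) (n : N) :
    conjFun N (φ r x) θ (resAct φ N hN r n) = conjFun N x θ n := by
  rw [conjFun_apply, conjFun_apply, ← hθ r ⟨x⁻¹ * n * x, _⟩]
  congr 1
  apply Subtype.ext
  show (φ r x)⁻¹ * φ r n * φ r x = φ r (x⁻¹ * n * x)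
  simp

theorem conjFun_act_eq {θ θ' : N → ℂ} (hθ : Inv (resAct φ N hN) θ)
    (hθ' : Inv (resAct φ N hN) θ') (r : R) (x : X) (h : conjFun N x θ = θ') :
    conjFun N (φ r x) θ = θ' := by
  funext n
  obtain ⟨n', rfl⟩ := (resAct φ N hN r).surjective n
  rw [conjFun_act φ N hN hθ, h, hθ' r]

theorem inertia_stable {θ : N → ℂ} (hθ : Inv (resAct φ N hN) θ) (r : R) (t : X)
    (ht : t ∈ inertia N θ) : φ r t ∈ inertia N θ :=
  conjFun_act_eq φ N hN hθ hθ r t ht

end one

section ind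

variable {X R : Type*} [Group X] [Fintype X] [Group R] (φ : R →* MulAut X) (T : Subgroup X)
  (hT : ∀ s, ∀ t ∈ T, φ s t ∈ T)

theorem extendByZero_act (ψ : T → ℂ) (r : R) (u : X) :
    extendByZero T ψ (φ r u) = extendByZero T (ψ ∘ resAct φ T hT r) u := by
  by_cases hu : u ∈ T
  · rw [extendByZero_mem T _ hu, extendByZero_mem T _ (hT r u hu)]
    rfl
  · rw [extendByZero_not_mem T _ hu, extendByZero_not_mem T]
    intro h
    apply hu
    have := hT r⁻¹ _ h
    simpa [map_inv] using this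

theorem indFun_act (ψ : T → ℂ) (r : R) (x : X) :
    indFun T ψ (φ r x) = indFun T (ψ ∘ resAct φ T hT r) x := by
  unfold indFun
  congr 1
  refine (Fintype.sum_equiv (φ r).toEquiv _ _ fun z => ?_).symm
  rw [← extendByZero_act φ T hT]
  congr 1
  simp

theorem inv_indFun {ψ : T → ℂ} (hψ : Inv (resAct φ T hT) ψ) : Inv φ (indFun T ψ) := by
  intro r x
  rw [indFun_act φ T hT]
  congr 1
  funext t
  exact hψ r t

end ind

section det

theorem detOrder_comp_dvd {H : Type*} [Group H] [Finite H] (α : H ≃* H) {χ : H → ℂ}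
    (hχ : IsCharacter H χ) : detOrder (χ ∘ α) ∣ detOrder χ := by
  apply orderOf_dvd_of_pow_eq_one
  funext g
  have h1 : (detChar χ) ^ detOrder χ = 1 := pow_orderOf_eq_one _
  have h2 := congrFun h1 (α g)
  simp only [Pi.pow_apply, Pi.one_apply] at h2 ⊢
  have h3 := congrFun (detChar_comp_hom α.toMonoidHom hχ) g
  have e : (fun h : H => χ (α.toMonoidHom h)) = χ ∘ α := rfl
  rw [e] at h3
  rw [h3]
  exact h2

end det

section canon

variable {X R : Type*} [Group X] [Fintype X] [Group R] (φ : R →* MulAut X) (N : Subgroup X)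
  [hNn : N.Normal] (hN : ∀ s, ∀ n ∈ N, φ s n ∈ N)

theorem exists_canonical {p : ℕ} (hp : p.Prime) (hNp : IsPGroup p N) (hidx : ¬ p ∣ N.index)
    {θ : N → ℂ} (hθirr : IsIrrCharacter N θ) (hθ : Inv (resAct φ N hN) θ) :
    ∃ Θ : inertia N θ → ℂ, IsIrrCharacter (inertia N θ) Θ ∧
      (fun n : N.subgroupOf (inertia N θ) => Θ n) = toSubgroupOf N (inertia N θ) θ ∧
      Inv (resAct φ (inertia N θ) (inertia_stable φ N hN hθ)) Θ := by
  classical
  haveI : Fact p.Prime := ⟨hp⟩
  set T := inertia N θ with hTdef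
  have hNT : N ≤ T := le_inertia N hθirr T (mem_inertia N θ)
  set ϑ := toSubgroupOf N T θ with hϑ
  have hϑirr : IsIrrCharacter (N.subgroupOf T) ϑ := IsIrrCharacter.toSubgroupOf hNT hθirr
  have hcard : ∃ a, Nat.card (N.subgroupOf T) = p ^ a := by
    rw [card_subgroupOf_of_le hNT]
    exact hNp.exists_card_eq
  obtain ⟨a, ha⟩ := hcard
  have hidx' : Nat.Coprime (N.subgroupOf T).index p := by
    apply Nat.Coprime.symm
    rw [Nat.Prime.coprime_iff_not_dvd hp]
    intro h
    exact hidx (h.trans (Subgroup.relIndex_dvd_index_of_normal N T))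
  have hcopOf : ∀ k : ℕ, k ∣ p ^ a → Nat.Coprime (N.subgroupOf T).index k := by
    intro k hk
    obtain ⟨i, _, rfl⟩ := (Nat.dvd_prime_pow hp).mp hk
    exact Nat.Coprime.pow_right i hidx'
  obtain ⟨Θ, ⟨hΘ, hres, hdet⟩, huniq⟩ := Cfsg.Agent.S0867.result (N.subgroupOf T) ϑ hϑirr
    (fun g => (stmtInv_iff (N.subgroupOf T) ϑ g).mpr (by
      rw [hϑ, conjFun_toSubgroupOf]
      congr 1
      exact g.2))
    (charDegree ϑ) (charDegree_cast (IsIrrCharacter.isCharacter hϑirr)).symm (by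
      apply Nat.Coprime.mul_right
      · exact hcopOf _ (ha ▸ detOrder_dvd_card (IsIrrCharacter.isCharacter hϑirr))
      · exact hcopOf _ (ha ▸ degree_dvd_card hϑirr))
  refine ⟨Θ, hΘ, funext hres, ?_⟩
  intro r t
  have h1 := huniq (Θ ∘ resAct φ T (inertia_stable φ N hN hθ) r)
    (IsIrrCharacter.comp_mulEquiv hΘ _) (by
      intro n
      show Θ (resAct φ T (inertia_stable φ N hN hθ) r n) = ϑ n
      have hmem : (resAct φ T (inertia_stable φ N hN hθ) r (n : T)) ∈ N.subgroupOf T := by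
        rw [Subgroup.mem_subgroupOf]
        exact hN r _ (Subgroup.mem_subgroupOf.mp n.2)
      have h2 := hres ⟨_, hmem⟩
      rw [h2]
      exact hθ r ⟨((n : T) : X), Subgroup.mem_subgroupOf.mp n.2⟩) (by
      apply Nat.Coprime.coprime_dvd_right
        (detOrder_comp_dvd _ (IsIrrCharacter.isCharacter hΘ))
      rw [hdet]
      exact hcopOf _ (ha ▸ detOrder_dvd_card (IsIrrCharacter.isCharacter hϑirr)))
  exact congrFun h1 t

end canon

end Cfsg.Agent.Lib.Helper25.RelGlaub
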