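import Mathlib
import Cfsg.Agent.Lib.Helper25.RelGlaub4
import Cfsg.Agent.Lib.Helper24.FongPSol

/-!
# Relative Glauberman correspondence: the Clifford package for one group
-/

set_option autoImplicit false

namespace Cfsg.Agent.Lib.Helper25.RelGlaub

open Cfsg Cfsg.Agent.Lib.Helper2 Cfsg.Agent.Lib.Helper6 Cfsg.Agent.Lib.Helper24
open Cfsg.Agent.Lib.Helper13 Cfsg.Agent.Lib.Lead.Glaub
open scoped ComplexConjugate Classical

attribute [local instance] irrFintype

section cp

variable {X : Type*} [Group X] [Fintype X] (N : Subgroup X) [hNn : N.Normal] {θ : N → ℂ}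

/-- lying over `θ`, for characters of the inertia group -/
def OvT (θ : N → ℂ) (ψ : inertia N θ → ℂ) : Prop :=
  classInner (fun n : N.subgroupOf (inertia N θ) => ψ n) (toSubgroupOf N (inertia N θ) θ) ≠ 0

theorem ov_iff {ψ : inertia N θ → ℂ} (hψ : IsClassFunction (inertia N θ) ψ) :
    classInner (indFun (N.subgroupOf (inertia N θ)) (toSubgroupOf N (inertia N θ) θ)) ψ ≠ 0 ↔
      OvT N θ ψ := by
  unfold OvT
  rw [frobenius_reciprocity _ _ _ hψ, ← classInner_conj_symm]
  exact map_ne_zero _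

theorem cp_irr (hθ : IsIrrCharacter N θ) {ψ : inertia N θ → ℂ}
    (hψ : IsIrrCharacter (inertia N θ) ψ) (hov : OvT N θ ψ) :
    IsIrrCharacter X (indFun (inertia N θ) ψ) :=
  (clifford_main N hθ (inertia N θ) (mem_inertia N θ)).1 ψ hψ
    ((ov_iff N (irr_isClassFunction hψ)).mpr hov)

theorem cp_inj (hθ : IsIrrCharacter N θ) {ψ ψ' : inertia N θ → ℂ}
    (hψ : IsIrrCharacter (inertia N θ) ψ) (hov : OvT N θ ψ)
    (hψ' : IsIrrCharacter (inertia N θ) ψ') (hov' : OvT N θ ψ')
    (h : indFun (inertia N θ) ψ = indFun (inertia N θ) ψ') : ψ = ψ' := by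
  by_contra hne
  have h1 := (clifford_main N hθ (inertia N θ) (mem_inertia N θ)).2.1 ψ ψ' hψ hψ'
    ((ov_iff N (irr_isClassFunction hψ)).mpr hov)
    ((ov_iff N (irr_isClassFunction hψ')).mpr hov') hne
  rw [← h, classInner_irr (cp_irr N hθ hψ hov) (cp_irr N hθ hψ hov), if_pos rfl] at h1
  exact one_ne_zero h1

theorem cp_surj (hθ : IsIrrCharacter N θ) {χ : X → ℂ} (hχ : IsIrrCharacter X χ)
    (hov : classInner (fun n : N => χ n) θ ≠ 0) :
    ∃ ψ : inertia N θ → ℂ, IsIrrCharacter (inertia N θ) ψ ∧ OvT N θ ψ ∧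
      indFun (inertia N θ) ψ = χ := by
  obtain ⟨ψ, h1, h2, h3, -⟩ := clifford_surj N hθ (inertia N θ) (mem_inertia N θ)
    (le_inertia N hθ _ (mem_inertia N θ)) hχ hov
  exact ⟨ψ, h1, (ov_iff N (irr_isClassFunction h1)).mp h3, h2⟩

theorem inner_res_ind {ψ : inertia N θ → ℂ} {χ : X → ℂ} (hχ : IsClassFunction X χ) :
    classInner (fun t : inertia N θ => χ t) ψ = classInner χ (indFun (inertia N θ) ψ) := by
  rw [← classInner_conj_symm, ← frobenius_reciprocity _ _ _ hχ, classInner_conj_symm]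

theorem cp_over (hθ : IsIrrCharacter N θ) {ψ : inertia N θ → ℂ}
    (hψ : IsIrrCharacter (inertia N θ) ψ) (hov : OvT N θ ψ) :
    classInner (fun n : N => indFun (inertia N θ) ψ n) θ ≠ 0 := by
  have hNT : N ≤ inertia N θ := le_inertia N hθ _ (mem_inertia N θ)
  have hχ := cp_irr N hθ hψ hov
  have h1 : classInner (fun t : inertia N θ => indFun (inertia N θ) ψ t) ψ ≠ 0 := by
    rw [inner_res_ind N (irr_isClassFunction hχ), classInner_irr hχ hχ, if_pos rfl]
    exact one_ne_zero
  have h2 := constituent_trans (N.subgroupOf (inertia N θ)).subtype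
    (IsCharacter.restrict (inertia N θ) (IsIrrCharacter.isCharacter hχ)) ⟨ψ, hψ⟩
    ⟨_, IsIrrCharacter.toSubgroupOf hNT hθ⟩ h1 hov
  have e : (fun a : N.subgroupOf (inertia N θ) =>
      (fun t : inertia N θ => indFun (inertia N θ) ψ t)
        ((N.subgroupOf (inertia N θ)).subtype a))
      = toSubgroupOf N (inertia N θ) (fun n : N => indFun (inertia N θ) ψ n) := rfl
  rw [e] at h2
  have h3 := classInner_toSubgroupOf hNT (fun n : N => indFun (inertia N θ) ψ n) θ
  rw [← h3]
  exact h2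

/-- other constituents of the restriction to the inertia group do not lie over `θ` -/
theorem cp_other (hθ : IsIrrCharacter N θ) {ψ ψ' : inertia N θ → ℂ}
    (hψ : IsIrrCharacter (inertia N θ) ψ) (hov : OvT N θ ψ)
    (hψ' : IsIrrCharacter (inertia N θ) ψ')
    (hc : classInner (fun t : inertia N θ => indFun (inertia N θ) ψ t) ψ' ≠ 0)
    (hne : ψ' ≠ ψ) : ¬ OvT N θ ψ' := by
  intro hov'
  have hχ := cp_irr N hθ hψ hov
  have hχ' := cp_irr N hθ hψ' hov'
  rw [inner_res_ind N (irr_isClassFunction hχ), classInner_irr hχ hχ'] at hc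
  by_cases h : indFun (inertia N θ) ψ = indFun (inertia N θ) ψ'
  · exact hne (cp_inj N hθ hψ hov hψ' hov' h).symm
  · rw [if_neg h] at hc
    exact hc rfl

variable {R : Type*} [Group R] (φ : R →* MulAut X) (hN : ∀ s, ∀ n ∈ N, φ s n ∈ N)

theorem cp_inv (hθ : IsIrrCharacter N θ) (hθφ : Inv (resAct φ N hN) θ) {ψ : inertia N θ → ℂ}
    (hψ : IsIrrCharacter (inertia N θ) ψ) (hov : OvT N θ ψ)
    (hinv : Inv φ (indFun (inertia N θ) ψ)) :
    Inv (resAct φ (inertia N θ) (inertia_stable φ N hN hθφ)) ψ := by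
  intro r t
  have hst : ∀ s, ∀ n ∈ N.subgroupOf (inertia N θ),
      resAct φ (inertia N θ) (inertia_stable φ N hN hθφ) s n ∈ N.subgroupOf (inertia N θ) := by
    intro s n hn
    rw [Subgroup.mem_subgroupOf] at hn ⊢
    exact hN s _ hn
  have hov' : OvT N θ (ψ ∘ resAct φ (inertia N θ) (inertia_stable φ N hN hθφ) r) := by
    unfold OvT
    have e1 : (fun n : N.subgroupOf (inertia N θ) =>
        (ψ ∘ resAct φ (inertia N θ) (inertia_stable φ N hN hθφ) r) n)
        = (fun n : N.subgroupOf (inertia N θ) => ψ n) ∘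
          (resAct (resAct φ (inertia N θ) (inertia_stable φ N hN hθφ))
            (N.subgroupOf (inertia N θ)) hst r) := rfl
    have e2 : toSubgroupOf N (inertia N θ) θ = toSubgroupOf N (inertia N θ) θ ∘
          (resAct (resAct φ (inertia N θ) (inertia_stable φ N hN hθφ))
            (N.subgroupOf (inertia N θ)) hst r) := by
      funext n
      exact (hθφ r ⟨((n : inertia N θ) : X), Subgroup.mem_subgroupOf.mp n.2⟩).symm
    rw [e1, e2, classInner_comp_equiv']
    exact hov
  have h1 : indFun (inertia N θ) (ψ ∘ resAct φ (inertia N θ) (inertia_stable φ N hN hθφ) r)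
      = indFun (inertia N θ) ψ := by
    funext x
    rw [← indFun_act φ (inertia N θ) (inertia_stable φ N hN hθφ), hinv r x]
  have h2 := cp_inj N hθ (IsIrrCharacter.comp_mulEquiv hψ _) hov' hψ hov h1
  exact congrFun h2 t

end cp

end Cfsg.Agent.Lib.Helper25.RelGlaub
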